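/-
Endomorphisms of a four-group, as pairs of images.
-/
import Mathlib

set_option autoImplicit false

namespace CfsgLib.MacWilliams

/-- The four-group. -/
abbrev V2 : Type := ZMod 2 × ZMod 2

/-- An endomorphism, by the images of the basis. -/
abbrev M4 : Type := V2 × V2

/-- Application. -/
def app (M : M4) (v : V2) : V2 := (v.1 * M.1.1 + v.2 * M.2.1, v.1 * M.1.2 + v.2 * M.2.2)

/-- Injectivity. -/
def Inv (M : M4) : Prop := ∀ v, app M v = 0 → v = 0

/-- No fixed point. -/
def Fpf (M : M4) : Prop := ∀ v, app M v = v → v = 0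

instance : DecidablePred Inv := fun M => inferInstanceAs (Decidable (∀ v, app M v = 0 → v = 0))
instance : DecidablePred Fpf := fun M => inferInstanceAs (Decidable (∀ v, app M v = v → v = 0))

/-- The swap of the basis. -/
def sw (v : V2) : V2 := (v.2, v.1)

/-- Conjugation by the swap. -/
def tc (M : M4) : M4 := (sw M.2, sw M.1)

/-- The fixed nilpotent. -/
def jj : M4 := ((1, 1), (1, 1))
/-- An element of order three. -/
def om : M4 := ((1, 1), (1, 0))
/-- Its square. -/
def om2 : M4 := ((0, 1), (1, 1))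
/-- A nilpotent. -/
def e12 : M4 := ((0, 0), (1, 0))
/-- A nilpotent. -/
def e21 : M4 := ((0, 1), (0, 0))
/-- A projection. -/
def e11 : M4 := ((1, 0), (0, 0))
/-- A projection. -/
def e22 : M4 := ((0, 0), (0, 1))

theorem app_add : ∀ M N v, app (M + N) v = app M v + app N v := by decide +kernel
theorem app_zero : ∀ v, app 0 v = 0 := by decide +kernel
theorem app_add_right : ∀ M v w, app M (v + w) = app M v + app M w := by decide +kernel
theorem app_ext : ∀ M N, (∀ v, app M v = app N v) → M = N := by decide +kernel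
theorem exists_app : ∀ d₁ d₂ : V2, ∃ M, app M (1, 0) = d₁ ∧ app M (0, 1) = d₂ := by decide +kernel
theorem v2_cases : ∀ v : V2, v = 0 ∨ v = (1, 0) ∨ v = (0, 1) ∨ v = (1, 0) + (0, 1) := by decide +kernel
theorem m4_self_add : ∀ M : M4, M + M = 0 := by decide +kernel
theorem v2_self_add : ∀ v : V2, v + v = 0 := by decide +kernel
theorem tc_app : ∀ M v, app (tc M) (sw v) = sw (app M v) := by decide +kernel
theorem sw_sw : ∀ v, sw (sw v) = v := by decide +kernel
theorem tc_add : ∀ M N, tc (M + N) = tc M + tc N := by decide +kernel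
theorem surj_of_inv : ∀ M, Inv M → ∀ e, ∃ v, app M v = e := by decide +kernel
theorem surj_of_fpf : ∀ M, Fpf M → ∀ e, ∃ v, v + app M v = e := by decide +kernel
theorem tc_fixed : ∀ M, tc M = M → M ∈ ([0, ((1, 0), (0, 1)), jj, ((0, 1), (1, 0))] : List M4) := by decide +kernel
theorem jj_props : Fpf jj ∧ jj ≠ 0 ∧ tc jj = jj := by decide +kernel
theorem e12_props : Fpf e12 ∧ e12 ≠ 0 := by decide +kernel
theorem e21_props : Fpf e21 ∧ e21 ≠ 0 := by decide +kernel
theorem om_props : Inv om ∧ Fpf om ∧ om ≠ 0 ∧ Inv om2 ∧ Fpf om2 ∧ om2 ≠ 0 := by decide +kernel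

theorem card_m4 : Nat.card M4 = 16 := by simp

/-- Outside a subgroup with at least eight elements, sums fall inside. -/
theorem add_mem_of_big {S : AddSubgroup M4} (h : 8 ≤ Nat.card S) {x y : M4} (hx : x ∉ S) (hy : y ∉ S) :
    x + y ∈ S := by
  have h1 := S.card_mul_index
  rw [card_m4] at h1
  have hi : S.index ≤ 2 := by
    have := Nat.mul_le_mul_right S.index h
    omega
  interval_cases hh : S.index
  · omega
  · exact absurd (AddSubgroup.index_eq_one.1 hh ▸ AddSubgroup.mem_top x) hx
  · exact (AddSubgroup.add_mem_iff_of_index_two hh).2 (iff_of_false hx hy)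

theorem eq_top_or_card_le {S : AddSubgroup M4} : S = ⊤ ∨ Nat.card S ≤ 8 := by
  have h1 := S.card_mul_index
  rw [card_m4] at h1
  rcases Nat.lt_or_ge S.index 2 with hi | hi
  · left
    refine AddSubgroup.index_eq_one.1 ?_
    have : S.index ≠ 0 := by intro e; rw [e] at h1; simp at h1
    omega
  · right
    have := Nat.mul_le_mul_left (Nat.card S) hi
    omega

theorem nilpotent_mem {S : AddSubgroup M4} (h : 8 ≤ Nat.card S) (hom : om ∉ S) (hom2 : om2 ∉ S) :
    e12 ∈ S ∨ e21 ∈ S ∨ jj ∈ S := by
  by_contra hc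
  push Not at hc
  obtain ⟨h12, h21, hj⟩ := hc
  have e : (e12 + e21) + jj = om + om2 := by decide +kernel
  have h1 := add_mem_of_big h h12 h21
  have h2 := add_mem_of_big h hom hom2
  rw [← e] at h2
  exact hj ((S.add_mem_cancel_left h1).1 h2)

theorem jj_mem_of_invariant {S : AddSubgroup M4} (h : 8 ≤ Nat.card S) (ht : ∀ M ∈ S, tc M ∈ S) : jj ∈ S := by
  have key : ∀ a b : M4, tc a = b → tc b = a → a + b ∈ S := fun a b hab hba => by
    by_cases ha : a ∈ S
    · exact S.add_mem ha (hab ▸ ht a ha)
    · exact add_mem_of_big h ha fun hb => ha (hba ▸ ht b hb)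
  rw [show jj = (e12 + e21) + (e11 + e22) by decide +kernel]
  exact S.add_mem (key _ _ (by decide +kernel) (by decide +kernel)) (key _ _ (by decide +kernel) (by decide +kernel))

end CfsgLib.MacWilliams
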