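/-
The elements of order at most four centralising a maximal normal abelian subgroup of exponent at most four.
-/
import Mathlib

set_option autoImplicit false

namespace CfsgLib.MacWilliams

open Subgroup
open scoped commutatorElement

variable {G : Type*} [Group G] [Finite G]

/-- A normal abelian subgroup of exponent at most four, maximal with these properties. -/
structure MaxFour (A : Subgroup G) : Prop where
  normal : A.Normal
  comm : ∀ a ∈ A, ∀ b ∈ A, a * b = b * a
  four : ∀ a ∈ A, a ^ 4 = 1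
  max : ∀ B : Subgroup G, B.Normal → (∀ a ∈ B, ∀ b ∈ B, a * b = b * a) → (∀ a ∈ B, a ^ 4 = 1) → A ≤ B → B = A

theorem exists_maxFour : ∃ A : Subgroup G, MaxFour A := by
  obtain ⟨A, ⟨h1, h2, h3⟩, hmax⟩ := (Set.toFinite {B : Subgroup G | B.Normal ∧ (∀ a ∈ B, ∀ b ∈ B, a * b = b * a) ∧
    ∀ a ∈ B, a ^ 4 = 1}).exists_maximal ⟨⊥, inferInstance, by simp, by simp⟩
  exact ⟨A, h1, h2, h3, fun B hB hc hf hle => le_antisymm (hmax ⟨hB, hc, hf⟩ hle) hle⟩

/-- The elements of order at most four centralising `A` lie in `A`. -/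
theorem MaxFour.mem_of_four (h2 : IsPGroup 2 G) {A : Subgroup G} (hA : MaxFour A) {x : G}
    (hxC : x ∈ centralizer (A : Set G)) (hx : x ^ 4 = 1) : x ∈ A := by
  haveI := hA.normal
  haveI : Fact (Nat.Prime 2) := ⟨Nat.prime_two⟩
  haveI := h2.isNilpotent
  set C := centralizer (A : Set G) with hC
  haveI : C.Normal := by rw [hC]; infer_instance
  have hcom : ∀ z ∈ C, ∀ a ∈ A, Commute a z := fun z hz a ha => hz a ha
  by_contra hxA
  let T : Set G := {z | z ∈ C ∧ z ^ 4 = 1 ∧ z ^ 2 ∈ A ∧ z ∉ A}
  have hTne : T.Nonempty := by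
    by_cases h : x ^ 2 ∈ A
    · exact ⟨x, hxC, hx, h, hxA⟩
    · exact ⟨x ^ 2, pow_mem hxC 2, by rw [← pow_mul, show 2 * 4 = 4 * 2 from rfl, pow_mul, hx, one_pow],
        by rw [← pow_mul, hx]; exact one_mem _, h⟩
  obtain ⟨z, hzT, hmin⟩ := Set.exists_min_image T (fun z => Nat.card (normalClosure ({z} : Set G)))
    (Set.toFinite _) hTne
  obtain ⟨hzC, hz4, hz2, hzA⟩ := hzT
  set N := normalClosure ({z} : Set G) with hN
  have hzN : z ∈ N := subset_normalClosure rfl
  have hNC : N ≤ C := normalClosure_le_normal (by simpa using hzC)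
  set R : Subgroup G := ⁅N, (⊤ : Subgroup G)⁆ with hR
  haveI : R.Normal := by rw [hR]; infer_instance
  have hRN : R < N := by
    refine lt_of_le_of_ne (commutator_le_left N ⊤) fun e => hzA ?_
    have h : ∀ n, N ≤ (⊤ : Subgroup G).lowerCentralSeries n := by
      intro n
      induction n with
      | zero => simp
      | succ n ih =>
        rw [Subgroup.lowerCentralSeries_succ]
        conv_lhs => rw [← e]
        exact commutator_mono ih le_rfl
    obtain ⟨n, hn⟩ := Subgroup.nilpotent_iff_lowerCentralSeries.mp (inferInstance : Group.IsNilpotent G)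
    have : N = ⊥ := le_bot_iff.1 (hn ▸ h n)
    rw [this, mem_bot] at hzN
    rw [hzN]; exact one_mem _
  -- the property of `R A`
  have key : ∀ r ∈ R, ∀ a ∈ A, (r * a) ^ 4 = 1 → (r * a) ^ 2 ∈ A → r * a ∈ A := by
    intro r hr a ha h4 h2'
    by_contra hra
    have hc : Commute r a := (hcom r (hNC (hRN.le hr)) a ha).symm
    have hrT : r ∈ T := by
      refine ⟨hNC (hRN.le hr), ?_, ?_, fun h => hra (mul_mem h ha)⟩
      · rwa [hc.mul_pow, hA.four a ha, mul_one] at h4
      · rw [hc.mul_pow] at h2'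
        simpa using mul_mem h2' (inv_mem (pow_mem ha 2))
    have hlt : Nat.card (normalClosure ({r} : Set G)) < Nat.card N := by
      have hle : normalClosure ({r} : Set G) ≤ R := normalClosure_le_normal (by simpa using hr)
      exact lt_of_le_of_lt (Nat.card_le_card_of_injective _ (inclusion_injective hle))
        (by
          refine lt_of_le_of_ne (Nat.card_le_card_of_injective _ (inclusion_injective hRN.le)) fun e => hRN.ne ?_
          exact eq_of_le_of_card_ge hRN.le e.ge)
    exact absurd (hmin r hrT) (not_le.2 hlt)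
  -- the commutators lie in `A`
  have hcomm : ∀ g : G, z⁻¹ * (g * z * g⁻¹) ∈ A := by
    intro g
    set z' := g * z * g⁻¹ with hz'
    set y := z⁻¹ * z' with hy
    have hyR : y ∈ R := by
      have := commutator_mem_commutator (inv_mem hzN) (mem_top g)
      rwa [show ⁅z⁻¹, g⁆ = y by rw [hy, hz', commutatorElement_def]; group] at this
    have hyC : y ∈ C := hNC (hRN.le hyR)
    have hz'2 : z' ^ 2 ∈ A := by rw [hz', conj_pow]; exact hA.normal.conj_mem _ hz2 g
    set c := z' ^ 2 * (z ^ 2)⁻¹ with hc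
    have hcA : c ∈ A := mul_mem hz'2 (inv_mem hz2)
    have hc2 : c ^ 2 = 1 := by
      have : Commute (z' ^ 2) (z ^ 2)⁻¹ := hA.comm _ hz'2 _ (inv_mem hz2)
      rw [hc, this.mul_pow, inv_pow, ← pow_mul, ← pow_mul, hz', conj_pow, hz4]
      simp
    have hconj : z * y * z⁻¹ = y⁻¹ * c := by
      have e : Commute (z' ^ 2) z⁻¹ := hcom _ (inv_mem hzC) _ hz'2
      have e2 : z⁻¹ * z' ^ 2 * z⁻¹ = c := by
        rw [hc, ← e.eq, mul_assoc, ← _root_.mul_inv_rev, ← pow_two]
      rw [eq_inv_mul_iff_mul_eq, ← e2, hy, pow_two]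
      group
    -- the order of `y` modulo `A`
    have hex : ∃ m : ℕ, y ^ 2 ^ m ∈ A := by
      obtain ⟨m, hm⟩ := h2 y
      exact ⟨m, by rw [hm]; exact one_mem _⟩
    classical
    have hm := Nat.find_spec hex
    rcases Nat.eq_zero_or_eq_succ_pred (Nat.find hex) with h0 | h0
    · rw [h0, pow_zero, pow_one] at hm; exact hm
    exfalso
    set j := (Nat.find hex).pred with hj
    set w := y ^ 2 ^ j with hw
    have hw2 : w ^ 2 ∈ A := by rw [hw, ← pow_mul, ← pow_succ]; rwa [h0] at hm
    have hwA : w ∉ A := Nat.find_min hex (by omega)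
    have hwC : w ∈ C := pow_mem hyC _
    refine hwA ?_
    have e := key w (pow_mem hyR _) 1 (one_mem _)
    rw [mul_one] at e
    refine e ?_ hw2
    have hcy : Commute c y⁻¹ := hcom _ (inv_mem hyC) _ hcA
    have hwc : z * w * z⁻¹ = w⁻¹ * c ^ 2 ^ j := by
      rw [hw, ← conj_pow, hconj, hcy.symm.mul_pow, inv_pow]
    have h1 : z * w ^ 2 * z⁻¹ = (w ^ 2)⁻¹ := by
      rw [← conj_pow, hwc]
      have : Commute w⁻¹ (c ^ 2 ^ j) := (hcom _ (inv_mem hwC) _ (pow_mem hcA _)).symm
      have hc2' : (c ^ 2 ^ j) ^ 2 = 1 := by rw [← pow_mul, mul_comm (2 ^ j) 2, pow_mul, hc2, one_pow]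
      rw [this.mul_pow, inv_pow, hc2', mul_one]
    rw [← (hcom _ hzC _ hw2).eq, mul_inv_cancel_right] at h1
    rw [show (4 : ℕ) = 2 + 2 from rfl, pow_add]
    nth_rewrite 2 [h1]
    exact mul_inv_cancel _
  -- enlarge `A`
  let B := closure (insert z (A : Set G))
  have hzB : z ∈ B := subset_closure (Set.mem_insert _ _)
  have hAB : A ≤ B := fun a ha => subset_closure (Set.mem_insert_of_mem _ ha)
  have hBc : ∀ a ∈ B, ∀ b ∈ B, a * b = b * a := by
    have hgen : ∀ a ∈ insert z (A : Set G), ∀ b ∈ insert z (A : Set G), a * b = b * a := by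
      rintro a (rfl | ha) b (rfl | hb)
      exacts [rfl, (hcom _ hzC _ hb).eq.symm, (hcom _ hzC _ ha).eq, hA.comm _ ha _ hb]
    intro a ha b hb
    induction ha using closure_induction with
    | mem a ha =>
      induction hb using closure_induction with
      | mem b hb => exact hgen a ha b hb
      | one => simp
      | mul b c _ _ e e' => rw [← mul_assoc, e, mul_assoc, e', mul_assoc]
      | inv b _ e => exact (Commute.inv_right e).eq
    | one => simp
    | mul a c _ _ e e' => rw [mul_assoc, e', ← mul_assoc, e, mul_assoc]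
    | inv a _ e => exact (Commute.inv_left e).eq
  have hB4 : ∀ a ∈ B, a ^ 4 = 1 := by
    intro a ha
    induction ha using closure_induction with
    | mem a ha =>
      rcases ha with rfl | ha
      exacts [hz4, hA.four a ha]
    | one => simp
    | mul a b ha hb e e' =>
      have hab : Commute a b := hBc a ha b hb
      rw [hab.mul_pow, e, e', one_mul]
    | inv a _ e => rw [inv_pow, e, inv_one]
  have hBn : B.Normal := ⟨fun b hb g => by
    induction hb using closure_induction with
    | mem b hb =>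
      rcases hb with rfl | hb
      · have := mul_mem hzB (hAB (hcomm g))
        rwa [mul_inv_cancel_left] at this
      · exact hAB (hA.normal.conj_mem _ hb g)
    | one => simp
    | mul a b _ _ e e' =>
      have := mul_mem e e'
      rwa [show g * a * g⁻¹ * (g * b * g⁻¹) = g * (a * b) * g⁻¹ by group] at this
    | inv a _ e =>
      have := inv_mem e
      rwa [show (g * a * g⁻¹)⁻¹ = g * a⁻¹ * g⁻¹ by group] at this⟩
  exact hzA (hA.max B hBn hBc hB4 hAB ▸ hzB)

end CfsgLib.MacWilliams
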