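/-
`2`-groups in which every element of order at most four is central.
-/
import Mathlib

set_option autoImplicit false

namespace CfsgLib.MacWilliams

open Subgroup

variable {X : Type*} [Group X] [Finite X]

/-- Every solution of `x ^ 4 = 1` is central. -/
def FourCentral (X : Type*) [Group X] : Prop := ∀ x : X, x ^ 4 = 1 → ∀ y : X, x * y = y * x

omit [Finite X] in
theorem FourCentral.subgroup (h : FourCentral X) (H : Subgroup X) : FourCentral H :=
  fun x hx y => Subtype.ext (h x.1 (by exact_mod_cast congrArg Subtype.val hx) y.1)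

theorem two_group_coatom_normal {H : Type*} [Group H] [Finite H] (hH : IsPGroup 2 H) {M : Subgroup H}
    (hM : IsCoatom M) : M.Normal := by
  haveI : Fact (Nat.Prime 2) := ⟨Nat.prime_two⟩
  haveI := hH.isNilpotent
  exact Subgroup.NormalizerCondition.normal_of_coatom M Group.normalizerCondition_of_isNilpotent hM

/-- Equal squares differ by an involution. -/
theorem sq_inj (h2 : IsPGroup 2 X) (hc : FourCentral X) {x y : X} (hxy : x ^ 2 = y ^ 2) :
    (x⁻¹ * y) ^ 2 = 1 := by
  suffices H : ∀ n, ∀ K : Subgroup X, Nat.card K = n → ∀ x ∈ K, ∀ y ∈ K, x ^ 2 = y ^ 2 → (x⁻¹ * y) ^ 2 = 1 from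
    H _ ⊤ rfl x (mem_top _) y (mem_top _) hxy
  clear hxy x y
  intro n
  induction n using Nat.strong_induction_on with
  | _ n ih =>
    intro K hK x hx y hy hxy
    by_cases hcm : x * y = y * x
    · have e : Commute x⁻¹ y := Commute.inv_left hcm
      rw [e.mul_pow, inv_pow, hxy, inv_mul_cancel]
    -- a smaller subgroup containing `y` and its conjugate
    have hne : zpowers (⟨y, hy⟩ : K) ≠ ⊤ := by
      intro htop
      obtain ⟨k, hk⟩ := mem_zpowers_iff.1 (htop ▸ mem_top (⟨x, hx⟩ : K))
      apply hcm
      have e : y ^ k = x := by simpa using congrArg Subtype.val hk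
      rw [← e]
      exact (Commute.zpow_self y k).eq
    obtain ⟨M, hM, hle⟩ := (IsCoatomic.eq_top_or_exists_le_coatom (zpowers (⟨y, hy⟩ : K))).resolve_left hne
    haveI := two_group_coatom_normal (h2.to_subgroup K) hM
    have hyM : (⟨y, hy⟩ : K) ∈ M := hle (mem_zpowers _)
    have hzM := Normal.conj_mem (H := M) inferInstance _ hyM (⟨x, hx⟩ : K)
    have hlt : Nat.card (M.map K.subtype) < n := by
      rw [← hK, card_subtype]
      exact (Subgroup.card_le_card_group M).lt_of_ne fun e => hM.1 (M.eq_top_of_card_eq e)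
    have hsq : (x * y * x⁻¹) ^ 2 = y ^ 2 := by
      rw [conj_pow, ← hxy, (Commute.pow_self x 2).eq.symm, mul_inv_cancel_right]
    have hu := ih _ hlt (M.map K.subtype) rfl y ⟨_, hyM, rfl⟩ (x * y * x⁻¹) ⟨_, hzM, by simp⟩ hsq.symm
    set u := y⁻¹ * (x * y * x⁻¹) with hudef
    have hu4 : u ^ 4 = 1 := by rw [show (4 : ℕ) = 2 * 2 from rfl, pow_mul, hu, one_pow]
    have hcy := hc u hu4 y
    -- `(x⁻¹ y) ^ 2` is an involution
    have e1 : x * y * x⁻¹ = y * u := by rw [hudef]; group
    have e2 : (x⁻¹ * y) ^ 2 = u⁻¹ := by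
      have h3 : x * x = y * y := by rw [← pow_two, ← pow_two, hxy]
      have h4 : x⁻¹ = x * (y * y)⁻¹ := by rw [← h3]; group
      have hc1 : Commute (y * y) x := by rw [← h3]; exact (Commute.refl x).mul_left (Commute.refl x)
      calc (x⁻¹ * y) ^ 2 = x⁻¹ * (y * x⁻¹ * y) := by rw [pow_two]; group
        _ = x⁻¹ * (y * (x * (y * y)⁻¹) * y) := by rw [← h4]
        _ = x⁻¹ * y * x * y⁻¹ := by group
        _ = x⁻¹ * y * (x * y * x⁻¹)⁻¹ * x * (x * x⁻¹) := by group
        _ = x⁻¹ * y * (y * u)⁻¹ * x := by rw [e1]; group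
        _ = x⁻¹ * (y * u⁻¹ * y⁻¹) * x := by group
        _ = u⁻¹ := by
          have e : y * u⁻¹ * y⁻¹ = u⁻¹ := by
            rw [(Commute.inv_left hcy).eq.symm, mul_inv_cancel_right]
          rw [e, mul_assoc, (Commute.inv_left (hc u hu4 x)).eq, inv_mul_cancel_left]
    have hw : (x⁻¹ * y) ^ 4 = 1 := by
      rw [show (4 : ℕ) = 2 * 2 from rfl, pow_mul, e2, inv_pow, hu, inv_one]
    have hcx := hc _ hw x
    exfalso
    apply hcm
    calc x * y = x * (x * (x⁻¹ * y)) := by group
      _ = x * ((x⁻¹ * y) * x) := by rw [hcx]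
      _ = y * x := by group

/-- The subgroup of elements of order at most two. -/
def omegaOne (h : FourCentral X) : Subgroup X where
  carrier := {x | x ^ 2 = 1}
  one_mem' := one_pow _
  mul_mem' {a b} ha hb := by
    simp only [Set.mem_setOf_eq] at ha hb ⊢
    have e : Commute a b := h a (by rw [show (4 : ℕ) = 2 * 2 from rfl, pow_mul, ha, one_pow]) b
    rw [e.mul_pow, ha, hb, one_mul]
  inv_mem' {a} ha := by simp only [Set.mem_setOf_eq] at ha ⊢; rw [inv_pow, ha, inv_one]

omit [Finite X] in
theorem mem_omegaOne (h : FourCentral X) {x : X} : x ∈ omegaOne h ↔ x ^ 2 = 1 := Iff.rfl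

omit [Finite X] in
theorem central_omegaOne (h : FourCentral X) {x : X} (hx : x ∈ omegaOne h) (y : X) : x * y = y * x :=
  h x (by rw [show (4 : ℕ) = 2 * 2 from rfl, pow_mul, (mem_omegaOne h).1 hx, one_pow]) y

/-- An elementary abelian quotient is no larger than the group of involutions. -/
theorem card_le_omega.{u} : ∀ (n : ℕ) {X : Type u} [Group X] [Finite X] (_ : IsPGroup 2 X) (h : FourCentral X),
    Nat.card X = n → ∀ {V : Type u} [Group V] [Finite V] (f : X →* V), Function.Surjective f → (∀ v : V, v ^ 2 = 1) →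
      Nat.card V ≤ Nat.card (omegaOne h) := by
  intro n
  induction n using Nat.strong_induction_on with
  | _ n ih =>
    intro X _ _ h2 h hn V _ _ f hf hV
    rcases subsingleton_or_nontrivial X with hX | hX
    · haveI := hf.subsingleton
      rw [Nat.card_of_subsingleton (1 : V)]
      exact Nat.one_le_iff_ne_zero.2 Nat.card_pos.ne'
    let O := omegaOne h
    haveI hON : O.Normal := ⟨fun z hz g => by rw [← central_omegaOne h hz g, mul_inv_cancel_right]; exact hz⟩
    have hO1 : O ≠ ⊥ := by
      haveI : Fact (Nat.Prime 2) := ⟨Nat.prime_two⟩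
      obtain ⟨k, hk, hcard⟩ := h2.nontrivial_iff_card.1 hX
      obtain ⟨z, hz⟩ := exists_prime_orderOf_dvd_card' (G := X) 2 (hcard ▸ dvd_pow_self 2 hk.ne')
      intro hb
      have : z ∈ O := (mem_omegaOne h).2 (by rw [← hz]; exact pow_orderOf_eq_one z)
      rw [hb, mem_bot] at this
      simp [this] at hz
    have hq2 : IsPGroup 2 (X ⧸ O) := h2.to_quotient O
    have key : ∀ x : X, x ^ 4 ∈ O → ∀ y : X, x⁻¹ * y * x * y⁻¹ ∈ O := by
      intro x hx y
      have h8 : (x ^ 2) ^ 4 = 1 := by
        rw [← pow_mul, show 2 * 4 = 4 * 2 from rfl, pow_mul]; exact hx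
      have hcent := h (x ^ 2) h8 y
      have hsq : (y * x * y⁻¹) ^ 2 = x ^ 2 := by rw [conj_pow, ← hcent, mul_inv_cancel_right]
      have := sq_inj h2 h hsq.symm
      rw [mem_omegaOne]
      simpa [mul_assoc] using this
    have hq : FourCentral (X ⧸ O) := by
      intro a ha b
      induction a using QuotientGroup.induction_on with | _ x => ?_
      induction b using QuotientGroup.induction_on with | _ y => ?_
      rw [← QuotientGroup.mk_pow, QuotientGroup.eq_one_iff] at ha
      rw [← QuotientGroup.mk_mul, ← QuotientGroup.mk_mul, QuotientGroup.eq]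
      have e1 := key x ha y⁻¹
      simpa [mul_assoc] using O.inv_mem e1
    have hlt : Nat.card (X ⧸ O) < n := by
      rw [← hn, O.card_eq_card_quotient_mul_card_subgroup]
      exact lt_mul_of_one_lt_right Nat.card_pos ((one_lt_card_iff_ne_bot O).2 hO1)
    let W := O.map f
    haveI : W.Normal := Normal.map hON f hf
    let f' : X ⧸ O →* V ⧸ W := QuotientGroup.map O W f (le_comap_map f O)
    have hf' : Function.Surjective f' := by
      intro v
      induction v using QuotientGroup.induction_on with | _ v => ?_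
      obtain ⟨x, rfl⟩ := hf v
      exact ⟨(x : X ⧸ O), rfl⟩
    have hU : ∀ v : V ⧸ W, v ^ 2 = 1 := fun v => by
      induction v using QuotientGroup.induction_on with | _ v => ?_
      rw [← QuotientGroup.mk_pow, hV]; rfl
    have hrec := ih _ hlt hq2 hq rfl f' hf' hU
    -- squaring embeds the involutions of the quotient
    let Z : Subgroup X := O ⊓ f.ker
    have hinj : Nat.card (omegaOne hq) ≤ Nat.card Z := by
      have hsq : ∀ a : omegaOne hq, ∃ z : Z, ∀ x : X, (x : X ⧸ O) = a.1 → (z : X) = x ^ 2 := by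
        intro a
        obtain ⟨x, hx⟩ := QuotientGroup.mk_surjective a.1
        have h1 : x ^ 2 ∈ O := by
          have := (mem_omegaOne hq).1 a.2
          rwa [← hx, ← QuotientGroup.mk_pow, QuotientGroup.eq_one_iff] at this
        refine ⟨⟨x ^ 2, h1, show f (x ^ 2) = 1 by rw [map_pow, hV]⟩, fun y hy => ?_⟩
        have h2' : x⁻¹ * y ∈ O := QuotientGroup.eq.1 (hx.trans hy.symm)
        have hcomm : Commute x (x⁻¹ * y) := (central_omegaOne h h2' x).symm
        show x ^ 2 = y ^ 2
        conv_rhs => rw [← mul_inv_cancel_left x y, hcomm.mul_pow, (mem_omegaOne h).1 h2', mul_one]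
      choose σ hσ using hsq
      refine Nat.card_le_card_of_injective σ fun a b hab => ?_
      obtain ⟨x, hx⟩ := QuotientGroup.mk_surjective a.1
      obtain ⟨y, hy⟩ := QuotientGroup.mk_surjective b.1
      have : x ^ 2 = y ^ 2 := by rw [← hσ a x hx, ← hσ b y hy, hab]
      refine Subtype.ext ?_
      rw [← hx, ← hy, QuotientGroup.eq]
      exact (mem_omegaOne h).2 (sq_inj h2 h this)
    calc Nat.card V = Nat.card (V ⧸ W) * Nat.card W := W.card_eq_card_quotient_mul_card_subgroup
      _ ≤ Nat.card Z * Nat.card W := Nat.mul_le_mul_right _ (hrec.trans hinj)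
      _ = Nat.card O := by
        let g := f.comp O.subtype
        have e1 : Nat.card g.ker = Nat.card Z := Nat.card_congr
          { toFun := fun a => ⟨a.1.1, a.1.2, a.2⟩
            invFun := fun a => ⟨⟨a.1, a.2.1⟩, a.2.2⟩
            left_inv := fun _ => rfl
            right_inv := fun _ => rfl }
        have e2 : g.range = W := by rw [MonoidHom.range_comp, Subgroup.range_subtype]
        rw [← e1, ← e2, mul_comm, ← Nat.card_congr (QuotientGroup.quotientKerEquivRange g).toEquiv]
        exact g.ker.card_eq_card_quotient_mul_card_subgroup.symm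

theorem card_le_omegaOne.{u} {X : Type u} [Group X] [Finite X] (h2 : IsPGroup 2 X) (h : FourCentral X)
    {V : Type u} [Group V] [Finite V] (f : X →* V) (hf : Function.Surjective f) (hV : ∀ v : V, v ^ 2 = 1) :
    Nat.card V ≤ Nat.card (omegaOne h) := card_le_omega _ h2 h rfl f hf hV

/-- If an elementary abelian quotient is as large as possible, its kernel consists of squares. -/
theorem exists_sq_of_mem_ker (h2 : IsPGroup 2 X) (h : FourCentral X) {V : Type*} [Group V] [Finite V] (f : X →* V)
    (hf : Function.Surjective f) (hV : ∀ v : V, v ^ 2 = 1) (hcard : Nat.card (omegaOne h) ≤ Nat.card V)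
    {x : X} (hx : f x = 1) : ∃ d : X, d ^ 2 = x := by
  classical
  haveI : DecidableEq f.ker := Classical.decEq _
  let sq : X → f.ker := fun d => ⟨d ^ 2, by rw [MonoidHom.mem_ker, map_pow, hV]⟩
  suffices hs : Function.Surjective sq by
    obtain ⟨d, hd⟩ := hs ⟨x, hx⟩
    exact ⟨d, congrArg Subtype.val hd⟩
  by_contra hns
  haveI := Fintype.ofFinite X
  haveI : Fintype f.ker := Fintype.ofFinite _
  have himg : (Finset.image sq (Finset.univ : Finset X)).card < Nat.card f.ker := by
    rw [Nat.card_eq_fintype_card]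
    refine Finset.card_lt_univ_of_notMem (x := (not_forall.1 hns).choose) ?_
    simpa using (not_forall.1 hns).choose_spec
  have hle : Fintype.card X ≤ ((Finset.univ : Finset X).image sq).card * Nat.card (omegaOne h) := by
    rw [← Finset.card_univ]
    rw [mul_comm]
    refine Finset.card_le_mul_card_image _ _ fun v hv => ?_
    obtain ⟨d, -, rfl⟩ := Finset.mem_image.1 hv
    rw [← Fintype.card_coe, ← Nat.card_eq_fintype_card]
    refine Nat.card_le_card_of_injective (fun e => (⟨d⁻¹ * e.1, ?_⟩ : omegaOne h)) fun a b e => ?_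
    · have := e.2
      simp only [Finset.mem_filter, Finset.mem_univ, true_and, sq, Subtype.mk.injEq] at this
      exact (mem_omegaOne h).2 (sq_inj h2 h this.symm)
    · exact Subtype.ext (mul_left_cancel (congrArg Subtype.val e))
  have hcardX : Nat.card X = Nat.card V * Nat.card f.ker := by
    rw [f.ker.card_eq_card_quotient_mul_card_subgroup,
      Nat.card_congr (QuotientGroup.quotientKerEquivOfSurjective f hf).toEquiv]
  rw [← Nat.card_eq_fintype_card, hcardX] at hle
  nlinarith [Nat.card_pos (α := V)]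

end CfsgLib.MacWilliams
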