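/-
The centraliser of a maximal normal abelian subgroup of exponent four, and the action on its involutions.
-/
import Cfsg.Agent.Lib.MacWilliams.Alperin
import Cfsg.Agent.Lib.MacWilliams.Central

set_option autoImplicit false

namespace CfsgLib.MacWilliams

open Subgroup

/-- No normal elementary abelian subgroup of order more than four. -/
def NoEight (G : Type*) [Group G] : Prop :=
  ∀ A : Subgroup G, A.Normal → IsMulCommutative A → (∀ a ∈ A, a ^ 2 = 1) → Nat.card A ≤ 4

theorem exp_two_comm {V : Type*} [Group V] (hV : ∀ v : V, v ^ 2 = 1) (a b : V) : a * b = b * a := by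
  have hinv : ∀ c : V, c⁻¹ = c := fun c => inv_eq_of_mul_eq_one_right (by rw [← pow_two, hV])
  calc a * b = (a * b)⁻¹ := (hinv _).symm
    _ = b * a := by rw [_root_.mul_inv_rev, hinv, hinv]

theorem card_two_group_dvd {V : Type*} [Group V] [Finite V] (h : IsPGroup 2 V) : ∃ k, Nat.card V = 2 ^ k := by
  haveI : Fact (Nat.Prime 2) := ⟨Nat.prime_two⟩
  exact IsPGroup.iff_card.1 h

theorem pow_two_cases {k n : ℕ} (hn : 2 ^ k ≤ n) (h4 : n ≤ 4) : 2 ^ k = 1 ∨ 2 ^ k = 2 ∨ 2 ^ k = 4 := by
  have : k ≤ 2 := by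
    by_contra hk
    have := Nat.pow_le_pow_right (show 0 < 2 by norm_num) (show 3 ≤ k by omega)
    omega
  interval_cases k <;> simp

variable {G : Type*} [Group G] [Finite G] {A : Subgroup G}

/-- The involutions of `A`. -/
def omA (hA : MaxFour A) : Subgroup G where
  carrier := {a | a ∈ A ∧ a ^ 2 = 1}
  one_mem' := ⟨one_mem _, one_pow _⟩
  mul_mem' {a b} ha hb := ⟨mul_mem ha.1 hb.1, by
    rw [(show Commute a b from hA.comm a ha.1 b hb.1).mul_pow, ha.2, hb.2, one_mul]⟩
  inv_mem' {a} ha := ⟨inv_mem ha.1, by rw [inv_pow, ha.2, inv_one]⟩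

theorem mem_omA (hA : MaxFour A) {a : G} : a ∈ omA hA ↔ a ∈ A ∧ a ^ 2 = 1 := Iff.rfl

theorem omA_normal (hA : MaxFour A) : (omA hA).Normal :=
  ⟨fun a ha g => ⟨hA.normal.conj_mem _ ha.1 g, by rw [conj_pow, ha.2]; simp⟩⟩

theorem card_omA (hA : MaxFour A) (hG : NoEight G) : Nat.card (omA hA) ≤ 4 :=
  hG _ (omA_normal hA) ⟨⟨fun a b => Subtype.ext (hA.comm _ a.2.1 _ b.2.1)⟩⟩ fun _ ha => ha.2

theorem sq_mem_omA (hA : MaxFour A) {a : G} (ha : a ∈ A) : a ^ 2 ∈ omA hA :=
  ⟨pow_mem ha 2, by rw [← pow_mul]; exact hA.four a ha⟩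

theorem fourCentral (h2 : IsPGroup 2 G) (hA : MaxFour A) {X : Subgroup G} (hX : X ≤ centralizer (A : Set G)) :
    FourCentral X := fun x hx y => by
  refine Subtype.ext ?_
  have hxA : (x : G) ∈ A := hA.mem_of_four h2 (hX x.2) (by exact_mod_cast congrArg Subtype.val hx)
  exact (hX y.2 x.1 hxA)

theorem card_omegaOne_le (h2 : IsPGroup 2 G) (hA : MaxFour A) {X : Subgroup G}
    (hX : X ≤ centralizer (A : Set G)) :
    Nat.card (omegaOne (fourCentral h2 hA hX)) ≤ Nat.card (omA hA) :=
  Nat.card_le_card_of_injective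
    (fun a => ⟨(a.1.1 : G), hA.mem_of_four h2 (hX a.1.2) (by
        have := congrArg Subtype.val ((mem_omegaOne _).1 a.2)
        simp only [SubgroupClass.coe_pow, OneMemClass.coe_one] at this
        rw [show (4 : ℕ) = 2 * 2 from rfl, pow_mul, this, one_pow]), by
      exact_mod_cast congrArg Subtype.val ((mem_omegaOne _).1 a.2)⟩)
    fun a b e => by
      have := congrArg (Subtype.val : omA hA → G) e
      exact Subtype.ext (Subtype.ext this)

section

universe u

variable {G : Type u} [Group G] [Finite G] {A : Subgroup G}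

/-- An elementary abelian image of a subgroup of the centraliser is small. -/
theorem card_range_le (h2 : IsPGroup 2 G) (hA : MaxFour A) {X : Subgroup G} (hX : X ≤ centralizer (A : Set G))
    {V : Type u} [Group V] [Finite V] (f : X →* V) (hV : ∀ v : V, v ^ 2 = 1) :
    Nat.card f.range ≤ Nat.card (omA hA) :=
  (card_le_omegaOne (h2.to_subgroup X) (fourCentral h2 hA hX) f.rangeRestrict f.rangeRestrict_surjective
    fun v => Subtype.ext (hV v.1)).trans (card_omegaOne_le h2 hA hX)

/-- If such an image has four elements, the kernel consists of squares. -/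
theorem exists_sq (h2 : IsPGroup 2 G) (hA : MaxFour A) (hG : NoEight G) {X : Subgroup G}
    (hX : X ≤ centralizer (A : Set G)) {V : Type u} [Group V] [Finite V] (f : X →* V) (hV : ∀ v : V, v ^ 2 = 1)
    (h4 : Nat.card f.range = 4) {x : X} (hx : f x = 1) : ∃ d : X, d ^ 2 = x :=
  exists_sq_of_mem_ker (h2.to_subgroup X) (fourCentral h2 hA hX) f.rangeRestrict f.rangeRestrict_surjective
    (fun v => Subtype.ext (hV v.1))
    (by rw [h4]; exact (card_omegaOne_le h2 hA hX).trans (card_omA hA hG)) (Subtype.ext hx)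

end

/-- A central involution of `A` and another one generate the involutions. -/
theorem omA_cases (h2 : IsPGroup 2 G) (hA : MaxFour A) (hG : NoEight G) :
    (∀ g : G, ∀ e ∈ omA hA, g * e * g⁻¹ = e) ∨
    ∃ f z : G, f ∈ omA hA ∧ z ∈ omA hA ∧ f ≠ 1 ∧ z ≠ 1 ∧ f ≠ z ∧ (∀ g : G, g * z * g⁻¹ = z) ∧
      (∀ e ∈ omA hA, e = 1 ∨ e = z ∨ e = f ∨ e = f * z) ∧ ∀ g : G, g * f * g⁻¹ = f ∨ g * f * g⁻¹ = f * z := by
  classical
  by_cases hc : ∀ g : G, ∀ e ∈ omA hA, g * e * g⁻¹ = e
  · exact Or.inl hc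
  right
  push Not at hc
  obtain ⟨g₀, f, hf, hfne⟩ := hc
  haveI := omA_normal hA
  haveI : Fact (Nat.Prime 2) := ⟨Nat.prime_two⟩
  haveI : Nontrivial (omA hA) := ⟨⟨f, hf⟩, 1, fun e => hfne (by
    have : f = 1 := congrArg Subtype.val e
    simp [this])⟩
  obtain ⟨z, hz, hz1⟩ : ∃ z ∈ omA hA, z ≠ 1 ∧ ∀ g : G, g * z * g⁻¹ = z := by
    obtain ⟨k, hk, hcard⟩ := (h2.to_subgroup (omA hA)).nontrivial_iff_card.1 inferInstance
    haveI : Fintype (omA hA) := Fintype.ofFinite _
    let Q := ConjAct G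
    have hQ : IsPGroup 2 Q := h2.of_equiv ConjAct.toConjAct
    obtain ⟨b, hb, hne⟩ := hQ.exists_fixed_point_of_prime_dvd_card_of_fixed_point (omA hA)
      (by rw [hcard]; exact dvd_pow_self 2 hk.ne') (a := (1 : omA hA)) (fun q => smul_one q)
    exact ⟨b.1, b.2, fun e => hne (Subtype.ext e.symm),
      fun g => congrArg (Subtype.val : omA hA → G) (hb (ConjAct.toConjAct g))⟩
  obtain ⟨hz1, hzc⟩ := hz1
  have hfz : f ≠ z := fun e => hfne (e ▸ hzc g₀)
  have hf1 : f ≠ 1 := fun e => hfne (by simp [e])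
  have hfz' : f * z ∈ omA hA := mul_mem hf hz
  have h1 : f * z ≠ 1 := fun e => hfz (by
    rw [eq_inv_of_mul_eq_one_left e, inv_eq_of_mul_eq_one_right (by rw [← pow_two]; exact hz.2)])
  let s : Finset (omA hA) := {1, ⟨z, hz⟩, ⟨f, hf⟩, ⟨f * z, hfz'⟩}
  haveI : Fintype (omA hA) := Fintype.ofFinite _
  have hs : s.card = 4 := by
    simp only [s]
    rw [Finset.card_insert_of_notMem, Finset.card_insert_of_notMem, Finset.card_insert_of_notMem,
      Finset.card_singleton]
    · simp only [Finset.mem_singleton, Subtype.mk.injEq]; exact fun e => hz1 (mul_eq_left.1 e.symm)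
    · simp only [Finset.mem_insert, Finset.mem_singleton, Subtype.mk.injEq, not_or]
      exact ⟨hfz.symm, fun e => hf1 (mul_eq_right.1 e.symm)⟩
    · simp only [Finset.mem_insert, Finset.mem_singleton, not_or]
      refine ⟨fun e => hz1 (congrArg Subtype.val e).symm, fun e => hf1 (congrArg Subtype.val e).symm,
        fun e => h1 (congrArg Subtype.val e).symm⟩
  have hall : ∀ e ∈ omA hA, e = 1 ∨ e = z ∨ e = f ∨ e = f * z := by
    intro e he
    have hu : s = Finset.univ := Finset.eq_univ_of_card _ (le_antisymm (Finset.card_le_univ _)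
      (by rw [hs, ← Nat.card_eq_fintype_card]; exact card_omA hA hG))
    have := hu ▸ Finset.mem_univ (⟨e, he⟩ : omA hA)
    simpa [s, Subtype.ext_iff] using this
  refine ⟨f, z, hf, hz, hf1, hz1, hfz, hzc, hall, fun g => ?_⟩
  rcases hall _ ((omA_normal hA).conj_mem f hf g) with e | e | e | e
  · exact absurd (conj_eq_one_iff.1 e) hf1
  · exact absurd (mul_left_cancel (mul_right_cancel (e.trans (hzc g).symm))) hfz
  · exact Or.inl e
  · exact Or.inr e

/-- The centraliser of the involutions has index at most two. -/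
theorem inv_mul_mem_centralizer (h2 : IsPGroup 2 G) (hA : MaxFour A) (hG : NoEight G) {s t : G}
    (hs : s ∉ centralizer (omA hA : Set G)) (ht : t ∉ centralizer (omA hA : Set G)) :
    s⁻¹ * t ∈ centralizer (omA hA : Set G) := by
  rcases omA_cases h2 hA hG with h | ⟨f, z, hf, hz, hf1, hz1, hfz, hzc, hall, hor⟩
  · exact absurd (fun e he => by
      have := h s e he
      rw [mul_inv_eq_iff_eq_mul] at this
      exact this.symm) hs
  have key : ∀ g : G, g * f * g⁻¹ = f → g ∈ centralizer (omA hA : Set G) := by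
    intro g hg e he
    have : g * e * g⁻¹ = e := by
      rcases hall e he with rfl | rfl | rfl | rfl
      · simp
      · exact hzc g
      · exact hg
      · rw [show g * (f * z) * g⁻¹ = (g * f * g⁻¹) * (g * z * g⁻¹) by group, hg, hzc g]
    rw [mul_inv_eq_iff_eq_mul] at this
    exact this.symm
  have hs' := (hor s).resolve_left fun e => hs (key s e)
  have ht' := (hor t).resolve_left fun e => ht (key t e)
  refine key _ ?_
  rw [show s⁻¹ * t * f * (s⁻¹ * t)⁻¹ = s⁻¹ * (t * f * t⁻¹) * s by group, ht', ← hs']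
  group

end CfsgLib.MacWilliams
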