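/-
The case of a homocyclic `A` of order sixteen: the action by endomorphisms of its involutions.
-/
import Cfsg.Agent.Lib.MacWilliams.Setup
import Cfsg.Agent.Lib.MacWilliams.Endo

set_option autoImplicit false

namespace CfsgLib.MacWilliams

open Subgroup

variable {G : Type*} [Group G] [Finite G] {A : Subgroup G}

/-- A basis of the involutions of `A`, with square roots. -/
structure Frame (hA : MaxFour A) where
  e₁ : G
  e₂ : G
  a₁ : G
  a₂ : G
  he₁ : e₁ ∈ omA hA
  he₂ : e₂ ∈ omA hA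
  ne₁ : e₁ ≠ 1
  ne₂ : e₂ ≠ 1
  ne : e₁ ≠ e₂
  all : ∀ e ∈ omA hA, e = 1 ∨ e = e₁ ∨ e = e₂ ∨ e = e₁ * e₂
  ha₁ : a₁ ∈ A
  ha₂ : a₂ ∈ A
  sq₁ : a₁ ^ 2 = e₁
  sq₂ : a₂ ^ 2 = e₂
  act : ∀ g : G, g ∈ centralizer (omA hA : Set G) ∨ (g * e₁ * g⁻¹ = e₂ ∧ g * e₂ * g⁻¹ = e₁)

theorem exists_frame (h2 : IsPGroup 2 G) (hA : MaxFour A) (hG : NoEight G)
    (hns : ¬ ∃ a ∈ A, ∀ b ∈ A, b ^ 2 = 1 ∨ b ^ 2 = a ^ 2) : Nonempty (Frame hA) := by
  classical
  push Not at hns
  obtain ⟨b, hb, hb1, -⟩ := hns 1 (one_mem _)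
  obtain ⟨c, hc, hc1, hcb⟩ := hns b hb
  haveI : Fintype (omA hA) := Fintype.ofFinite _
  -- every involution is a square
  have hsq : ∀ e ∈ omA hA, ∃ a ∈ A, a ^ 2 = e := by
    have hbc : (b * c) ^ 2 = b ^ 2 * c ^ 2 := (show Commute b c from hA.comm b hb c hc).mul_pow 2
    let s : Finset (omA hA) := {1, ⟨_, sq_mem_omA hA hb⟩, ⟨_, sq_mem_omA hA hc⟩, ⟨_, sq_mem_omA hA (mul_mem hb hc)⟩}
    have hinv : c ^ 2 * c ^ 2 = 1 := by rw [← pow_add]; exact hA.four c hc
    have hs : s.card = 4 := by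
      simp only [s]
      rw [Finset.card_insert_of_notMem, Finset.card_insert_of_notMem, Finset.card_insert_of_notMem,
        Finset.card_singleton]
      · simp only [Finset.mem_singleton, Subtype.mk.injEq, hbc]; exact fun e => hb1 (mul_eq_right.1 e.symm)
      · simp only [Finset.mem_insert, Finset.mem_singleton, Subtype.mk.injEq, not_or, hbc]
        exact ⟨fun e => hcb e.symm, fun e => hc1 (mul_eq_left.1 e.symm)⟩
      · simp only [Finset.mem_insert, Finset.mem_singleton, not_or]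
        refine ⟨fun e => hb1 (congrArg Subtype.val e).symm, fun e => hc1 (congrArg Subtype.val e).symm, fun e => ?_⟩
        have h := (congrArg Subtype.val e).symm
        simp only [hbc, OneMemClass.coe_one] at h
        exact hcb (by rw [← one_mul (c ^ 2), ← h, mul_assoc, hinv, mul_one])
    intro e he
    have hu : s = Finset.univ := Finset.eq_univ_of_card _ (le_antisymm (Finset.card_le_univ _)
      (by rw [hs, ← Nat.card_eq_fintype_card]; exact card_omA hA hG))
    have := hu ▸ Finset.mem_univ (⟨e, he⟩ : omA hA)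
    simp only [s, Finset.mem_insert, Finset.mem_singleton, Subtype.ext_iff, OneMemClass.coe_one] at this
    rcases this with h | h | h | h
    exacts [⟨1, one_mem _, by simp [h]⟩, ⟨b, hb, h.symm⟩, ⟨c, hc, h.symm⟩, ⟨_, mul_mem hb hc, h.symm⟩]
  rcases omA_cases h2 hA hG with h | ⟨f, z, hf, hz, hf1, hz1, hfz, hzc, hall, hor⟩
  · refine ⟨⟨b ^ 2, c ^ 2, b, c, sq_mem_omA hA hb, sq_mem_omA hA hc, hb1, hc1, fun e => hcb e.symm,
      fun e he => ?_, hb, hc, rfl, rfl, fun g => Or.inl fun e he => by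
        have := h g e he
        rw [mul_inv_eq_iff_eq_mul] at this
        exact this.symm⟩⟩
    have hbc : (b * c) ^ 2 = b ^ 2 * c ^ 2 := (show Commute b c from hA.comm b hb c hc).mul_pow 2
    let s : Finset (omA hA) := {1, ⟨_, sq_mem_omA hA hb⟩, ⟨_, sq_mem_omA hA hc⟩,
      ⟨_, mul_mem (sq_mem_omA hA hb) (sq_mem_omA hA hc)⟩}
    have hinv : c ^ 2 * c ^ 2 = 1 := by rw [← pow_add]; exact hA.four c hc
    have hs : s.card = 4 := by
      simp only [s]
      rw [Finset.card_insert_of_notMem, Finset.card_insert_of_notMem, Finset.card_insert_of_notMem,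
        Finset.card_singleton]
      · simp only [Finset.mem_singleton, Subtype.mk.injEq]; exact fun e => hb1 (mul_eq_right.1 e.symm)
      · simp only [Finset.mem_insert, Finset.mem_singleton, Subtype.mk.injEq, not_or]
        exact ⟨fun e => hcb e.symm, fun e => hc1 (mul_eq_left.1 e.symm)⟩
      · simp only [Finset.mem_insert, Finset.mem_singleton, not_or]
        refine ⟨fun e => hb1 (congrArg Subtype.val e).symm, fun e => hc1 (congrArg Subtype.val e).symm, fun e => ?_⟩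
        have h' := (congrArg Subtype.val e).symm
        simp only [OneMemClass.coe_one] at h'
        exact hcb (by rw [← one_mul (c ^ 2), ← h', mul_assoc, hinv, mul_one])
    have hu : s = Finset.univ := Finset.eq_univ_of_card _ (le_antisymm (Finset.card_le_univ _)
      (by rw [hs, ← Nat.card_eq_fintype_card]; exact card_omA hA hG))
    have := hu ▸ Finset.mem_univ (⟨e, he⟩ : omA hA)
    simpa [s, Subtype.ext_iff] using this
  · have hzz : z * z = 1 := by rw [← pow_two]; exact hz.2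
    have hff : f * f = 1 := by rw [← pow_two]; exact hf.2
    obtain ⟨a₁, ha₁, e₁⟩ := hsq f hf
    obtain ⟨a₂, ha₂, e₂⟩ := hsq (f * z) (mul_mem hf hz)
    refine ⟨⟨f, f * z, a₁, a₂, hf, mul_mem hf hz, hf1,
      fun e => hfz (by rw [eq_inv_of_mul_eq_one_left e, inv_eq_of_mul_eq_one_right hzz]),
      fun e => hz1 (mul_eq_left.1 e.symm), fun e he => ?_, ha₁, ha₂, e₁, e₂, fun g => ?_⟩⟩
    · rcases hall e he with h | h | h | h
      exacts [Or.inl h, Or.inr (Or.inr (Or.inr (by rw [h, ← mul_assoc, hff, one_mul]))), Or.inr (Or.inl h),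
        Or.inr (Or.inr (Or.inl h))]
    · rcases hor g with h | h
      · refine Or.inl fun e he => ?_
        have : g * e * g⁻¹ = e := by
          rcases hall e he with rfl | rfl | rfl | rfl
          · simp
          · exact hzc g
          · exact h
          · rw [show g * (f * z) * g⁻¹ = (g * f * g⁻¹) * (g * z * g⁻¹) by group, h, hzc g]
        rw [mul_inv_eq_iff_eq_mul] at this
        exact this.symm
      · refine Or.inr ⟨h, ?_⟩
        rw [show g * (f * z) * g⁻¹ = (g * f * g⁻¹) * (g * z * g⁻¹) by group, h, hzc g, mul_assoc, hzz, mul_one]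

theorem pow_val_add {x : G} (h : x ^ 2 = 1) : ∀ a b : ZMod 2, x ^ (a + b).val = x ^ a.val * x ^ b.val := by
  have : ∀ a b : ZMod 2, (a = 0 ∨ a = 1) ∧ (b = 0 ∨ b = 1) := by decide
  intro a b
  obtain ⟨ha, hb⟩ := this a b
  have hxx : x * x = 1 := by rw [← pow_two, h]
  rcases ha with rfl | rfl <;> rcases hb with rfl | rfl <;>
    simp [show ((1 : ZMod 2) + 1) = 0 by decide, ZMod.val_one, hxx]

namespace Frame

variable {hA : MaxFour A} (F : Frame hA)

/-- The coordinates of an involution. -/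
def iota (v : V2) : G := F.e₁ ^ v.1.val * F.e₂ ^ v.2.val

theorem iota_mem (v : V2) : F.iota v ∈ omA hA := mul_mem (pow_mem F.he₁ _) (pow_mem F.he₂ _)

theorem iota_add (v w : V2) : F.iota (v + w) = F.iota v * F.iota w := by
  have hc : ∀ m n : ℕ, Commute (F.e₁ ^ m) (F.e₂ ^ n) := fun m n =>
    (show Commute F.e₁ F.e₂ from hA.comm _ F.he₁.1 _ F.he₂.1).pow_pow m n
  simp only [iota, Prod.fst_add, Prod.snd_add, pow_val_add F.he₁.2, pow_val_add F.he₂.2]
  rw [mul_assoc, mul_assoc, ← mul_assoc (F.e₁ ^ w.1.val), (hc w.1.val v.2.val).eq, mul_assoc]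

theorem iota_zero : F.iota 0 = 1 := by simp [iota]

theorem iota_one₁ : F.iota (1, 0) = F.e₁ := by simp [iota, ZMod.val_one]

theorem iota_one₂ : F.iota (0, 1) = F.e₂ := by simp [iota, ZMod.val_one]

theorem iota_eq_one {v : V2} (h : F.iota v = 1) : v = 0 := by
  rcases v2_cases v with rfl | rfl | rfl | rfl
  · rfl
  · exact absurd (F.iota_one₁ ▸ h) F.ne₁
  · exact absurd (F.iota_one₂ ▸ h) F.ne₂
  · rw [iota_add, iota_one₁, iota_one₂] at h
    exact absurd (by rw [eq_inv_of_mul_eq_one_left h, inv_eq_of_mul_eq_one_right]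
                     rw [← pow_two]; exact F.he₂.2) F.ne

theorem iota_inj {v w : V2} (h : F.iota v = F.iota w) : v = w := by
  have h1 : F.iota (v + w) = 1 := by rw [iota_add, h, ← iota_add, v2_self_add, iota_zero]
  have := F.iota_eq_one h1
  calc v = (v + w) + w := by rw [add_assoc, v2_self_add, add_zero]
    _ = w := by rw [this, zero_add]

theorem iota_surj {e : G} (he : e ∈ omA hA) : ∃ v, F.iota v = e := by
  rcases F.all e he with rfl | rfl | rfl | rfl
  exacts [⟨0, F.iota_zero⟩, ⟨_, F.iota_one₁⟩, ⟨_, F.iota_one₂⟩,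
    ⟨(1, 0) + (0, 1), by rw [iota_add, iota_one₁, iota_one₂]⟩]

theorem iota_fix {g : G} (hg : g ∈ centralizer (omA hA : Set G)) (v : V2) : g * F.iota v * g⁻¹ = F.iota v := by
  rw [← hg _ (F.iota_mem v), mul_inv_cancel_right]

theorem iota_swap {g : G} (hg : g ∉ centralizer (omA hA : Set G)) (v : V2) :
    g * F.iota v * g⁻¹ = F.iota (sw v) := by
  obtain ⟨h1, h2⟩ := (F.act g).resolve_left hg
  rcases v2_cases v with rfl | rfl | rfl | rfl
  · rw [show sw 0 = 0 by decide, iota_zero]; simp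
  · rw [show sw (1, 0) = ((0, 1) : V2) by decide, iota_one₁, iota_one₂, h1]
  · rw [show sw (0, 1) = ((1, 0) : V2) by decide, iota_one₁, iota_one₂, h2]
  · rw [show sw ((1, 0) + (0, 1)) = ((0, 1) : V2) + (1, 0) by decide, iota_add, iota_add, iota_one₁, iota_one₂,
      show g * (F.e₁ * F.e₂) * g⁻¹ = (g * F.e₁ * g⁻¹) * (g * F.e₂ * g⁻¹) by group, h1, h2]

/-- An element of `A` with given square. -/
theorem exists_root (v : V2) : ∃ a ∈ A, a ^ 2 = F.iota v := by
  refine ⟨F.a₁ ^ v.1.val * F.a₂ ^ v.2.val, mul_mem (pow_mem F.ha₁ _) (pow_mem F.ha₂ _), ?_⟩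
  rw [(show Commute (F.a₁ ^ v.1.val) (F.a₂ ^ v.2.val) from
    hA.comm _ (pow_mem F.ha₁ _) _ (pow_mem F.ha₂ _)).mul_pow, ← pow_mul, ← pow_mul, mul_comm _ 2, mul_comm _ 2,
    pow_mul, pow_mul, F.sq₁, F.sq₂]
  rfl

/-- `w` acts on `A` through the endomorphism `M`. -/
def Mu (w : G) (M : M4) : Prop :=
  w ∈ centralizer (omA hA : Set G) ∧ ∀ a ∈ A, ∀ v, a ^ 2 = F.iota v → w * a * w⁻¹ = F.iota (app M v) * a

theorem exists_mu {w : G} (hw : w ∈ centralizer (omA hA : Set G)) : ∃ M, F.Mu w M := by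
  have hd : ∀ a ∈ A, ∃ d, w * a * w⁻¹ = F.iota d * a := by
    intro a ha
    obtain ⟨d, hd⟩ := F.iota_surj (e := w * a * w⁻¹ * a⁻¹) ⟨mul_mem (hA.normal.conj_mem _ ha _) (inv_mem ha), by
      rw [(show Commute _ a⁻¹ from hA.comm _ (hA.normal.conj_mem _ ha _) _ (inv_mem ha)).mul_pow, conj_pow,
        ← hw _ (sq_mem_omA hA ha), mul_inv_cancel_right, inv_pow, mul_inv_cancel]⟩
    exact ⟨d, by rw [hd, inv_mul_cancel_right]⟩
  obtain ⟨d₁, hd₁⟩ := hd _ F.ha₁
  obtain ⟨d₂, hd₂⟩ := hd _ F.ha₂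
  obtain ⟨M, hM₁, hM₂⟩ := exists_app d₁ d₂
  refine ⟨M, hw, fun a ha v hav => ?_⟩
  -- on an involution times a root
  have step : ∀ r ∈ A, ∀ d, r ^ 2 = F.iota v → w * r * w⁻¹ = F.iota d * r → w * a * w⁻¹ = F.iota d * a := by
    intro r hr d hrv hwr
    have hu : r⁻¹ * a ∈ omA hA := ⟨mul_mem (inv_mem hr) ha, by
      rw [(show Commute r⁻¹ a from hA.comm _ (inv_mem hr) _ ha).mul_pow, inv_pow, hrv, hav, inv_mul_cancel]⟩
    rw [show w * a * w⁻¹ = (w * r * w⁻¹) * (w * (r⁻¹ * a) * w⁻¹) by group, hwr, ← hw _ hu, mul_inv_cancel_right,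
      mul_assoc, mul_inv_cancel_left]
  rcases v2_cases v with rfl | rfl | rfl | rfl
  · rw [show app M 0 = 0 by simp [app]]
    exact step 1 (one_mem _) 0 (by rw [one_pow, iota_zero]) (by rw [iota_zero]; simp)
  · rw [hM₁]; exact step _ F.ha₁ _ (by rw [F.sq₁, iota_one₁]) hd₁
  · rw [hM₂]; exact step _ F.ha₂ _ (by rw [F.sq₂, iota_one₂]) hd₂
  · rw [app_add_right, hM₁, hM₂]
    refine step _ (mul_mem F.ha₁ F.ha₂) _ (by
      rw [(show Commute F.a₁ F.a₂ from hA.comm _ F.ha₁ _ F.ha₂).mul_pow, F.sq₁, F.sq₂, iota_add, iota_one₁,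
        iota_one₂]) ?_
    rw [show w * (F.a₁ * F.a₂) * w⁻¹ = (w * F.a₁ * w⁻¹) * (w * F.a₂ * w⁻¹) by group, hd₁, hd₂, iota_add,
      mul_assoc, mul_assoc, ← mul_assoc F.a₁, hA.comm _ F.ha₁ _ (F.iota_mem d₂).1, mul_assoc]

theorem mu_unique {w : G} {M N : M4} (hM : F.Mu w M) (hN : F.Mu w N) : M = N :=
  app_ext M N fun v => by
    obtain ⟨a, ha, hav⟩ := F.exists_root v
    exact F.iota_inj (mul_right_cancel ((hM.2 a ha v hav).symm.trans (hN.2 a ha v hav)))

theorem mu_mul {u w : G} {M N : M4} (hu : F.Mu u M) (hw : F.Mu w N) : F.Mu (u * w) (M + N) := by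
  refine ⟨mul_mem hu.1 hw.1, fun a ha v hav => ?_⟩
  rw [show u * w * a * (u * w)⁻¹ = u * (w * a * w⁻¹) * u⁻¹ by group, hw.2 a ha v hav,
    show u * (F.iota (app N v) * a) * u⁻¹ = (u * F.iota (app N v) * u⁻¹) * (u * a * u⁻¹) by group,
    F.iota_fix hu.1, hu.2 a ha v hav, ← mul_assoc, ← iota_add, app_add, add_comm]

theorem mu_of_centralizer {c : G} (hc : c ∈ centralizer (A : Set G)) : F.Mu c 0 := by
  refine ⟨fun e he => hc e he.1, fun a ha v _ => ?_⟩
  rw [app_zero, iota_zero, one_mul, ← hc a ha, mul_inv_cancel_right]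

theorem mem_centralizer_of_mu {c : G} (hc : F.Mu c 0) : c ∈ centralizer (A : Set G) := by
  intro a ha
  obtain ⟨v, hv⟩ := F.iota_surj (sq_mem_omA hA ha)
  have := hc.2 a ha v hv.symm
  rw [app_zero, iota_zero, one_mul, mul_inv_eq_iff_eq_mul] at this
  exact this.symm

theorem mu_inv {w : G} {M : M4} (h : F.Mu w M) : F.Mu w⁻¹ M := by
  obtain ⟨N, hN⟩ := F.exists_mu (inv_mem h.1)
  have e := F.mu_unique (F.mu_mul h hN) (by rw [mul_inv_cancel]; exact F.mu_of_centralizer (one_mem _))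
  have : N = M := by
    calc N = (M + M) + N := by rw [m4_self_add, zero_add]
      _ = M + (M + N) := add_assoc ..
      _ = M := by rw [e, add_zero]
  rwa [this] at hN

theorem mu_conj_swap {w t : G} {M : M4} (h : F.Mu w M) (ht : t ∉ centralizer (omA hA : Set G)) :
    F.Mu (t * w * t⁻¹) (tc M) := by
  haveI := omA_normal hA
  refine ⟨Subgroup.Normal.conj_mem inferInstance _ h.1 t, fun a ha v hav => ?_⟩
  have ht' : t⁻¹ ∉ centralizer (omA hA : Set G) := fun e => ht (inv_mem_iff.1 e)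
  have hb : t⁻¹ * a * t ∈ A := hA.normal.conj_mem' _ ha t
  have hb2 : (t⁻¹ * a * t) ^ 2 = F.iota (sw v) := by
    have := conj_pow (i := 2) (a := t⁻¹) (b := a)
    rw [inv_inv, hav] at this
    rw [this, ← F.iota_swap ht' v, inv_inv]
  rw [show t * w * t⁻¹ * a * (t * w * t⁻¹)⁻¹ = t * (w * (t⁻¹ * a * t) * w⁻¹) * t⁻¹ by group, h.2 _ hb _ hb2,
    show t * (F.iota (app M (sw v)) * (t⁻¹ * a * t)) * t⁻¹ = (t * F.iota (app M (sw v)) * t⁻¹) * a by group,
    F.iota_swap ht, ← tc_app, sw_sw]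

theorem mu_conj {w g : G} {M : M4} (h : F.Mu w M) (hg : g ∈ centralizer (omA hA : Set G)) :
    F.Mu (g * w * g⁻¹) M := by
  obtain ⟨N, hN⟩ := F.exists_mu hg
  have := F.mu_mul (F.mu_mul hN h) (F.mu_inv hN)
  rwa [add_comm N M, add_assoc, m4_self_add, add_zero] at this

theorem sq_mem_centralizer {w : G} {M : M4} (h : F.Mu w M) : w ^ 2 ∈ centralizer (A : Set G) :=
  F.mem_centralizer_of_mu (by simpa [pow_two, m4_self_add] using F.mu_mul h h)

end Frame

/-- A power in `A` which is not an involution. -/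
theorem exists_power (h2 : IsPGroup 2 G) (hA : MaxFour A) {c : G} (hc : c ∈ centralizer (A : Set G))
    (hc2 : c ^ 2 ≠ 1) : ∃ n : ℕ, c ^ n ∈ A ∧ (c ^ n) ^ 2 ≠ 1 := by
  classical
  have hex : ∃ m : ℕ, (c ^ 2 ^ m) ^ 4 = 1 := by
    obtain ⟨m, hm⟩ := h2 c
    exact ⟨m, by rw [hm, one_pow]⟩
  refine ⟨2 ^ Nat.find hex, hA.mem_of_four h2 (pow_mem hc _) (Nat.find_spec hex), ?_⟩
  rcases Nat.eq_zero_or_eq_succ_pred (Nat.find hex) with h0 | h0
  · simpa [h0] using hc2
  · intro e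
    refine Nat.find_min hex (m := (Nat.find hex).pred) (by omega) ?_
    rw [← pow_mul, show 2 ^ (Nat.find hex).pred * 4 = 2 ^ ((Nat.find hex).pred + 1) * 2 by ring, pow_mul]
    have : 2 ^ ((Nat.find hex).pred + 1) = 2 ^ Nat.find hex := by congr 1; omega
    rw [this]; exact e

namespace Frame

variable {hA : MaxFour A} (F : Frame hA)

/-- The endomorphism has a lift whose square is an involution. -/
def Norm (M : M4) : Prop := ∃ w, F.Mu w M ∧ (w ^ 2) ^ 2 = 1

include F in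
theorem eq_zero_of_sq {a : G} {v : V2} (hav : a ^ 2 = F.iota v) (hv : v = 0) : a ^ 2 = 1 := by
  rw [hav, hv, F.iota_zero]

theorem norm_of_inv (h2 : IsPGroup 2 G) {w : G} {M : M4} (hM : Inv M) (h : F.Mu w M) : F.Norm M := by
  refine ⟨w, h, by_contra fun hne => ?_⟩
  obtain ⟨n, hn, hn2⟩ := exists_power h2 hA (F.sq_mem_centralizer h) hne
  obtain ⟨v, hv⟩ := F.iota_surj (sq_mem_omA hA hn)
  have e := h.2 _ hn v hv.symm
  rw [((Commute.pow_right (Commute.pow_right (Commute.refl w) 2) n)).eq, mul_inv_cancel_right] at e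
  exact hn2 (F.eq_zero_of_sq hv.symm (hM v (F.iota_eq_one (mul_eq_right.1 e.symm))))

theorem norm_of_square (h2 : IsPGroup 2 G) {w d : G} {M : M4} (h : F.Mu w M) (hd : d ∈ centralizer (A : Set G))
    (hsq : d ^ 2 = w ^ 2) : F.Norm M := by
  haveI := hA.normal
  refine ⟨w * d⁻¹, by simpa using F.mu_mul h (F.mu_of_centralizer (inv_mem hd)), ?_⟩
  set d' := w * d * w⁻¹ with hd'
  have hd'C : d' ∈ centralizer (A : Set G) := Subgroup.Normal.conj_mem inferInstance _ hd w
  have hsq' : d' ^ 2 = d ^ 2 := by rw [hd', conj_pow, hsq]; group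
  set X := centralizer (A : Set G)
  have hfc := fourCentral h2 hA (le_refl X)
  have key := sq_inj (h2.to_subgroup X) hfc (x := ⟨d', hd'C⟩) (y := ⟨d, hd⟩) (Subtype.ext hsq')
  have e : (w * d⁻¹) ^ 2 = d'⁻¹ * d := by
    have hww : w * w = d * d := by rw [← pow_two, ← pow_two, hsq]
    calc (w * d⁻¹) ^ 2 = (w * d * w⁻¹)⁻¹ * (w * w) * d⁻¹ := by rw [pow_two]; group
      _ = d'⁻¹ * d := by rw [hww, hd']; group
  rw [e]
  simpa using congrArg Subtype.val key

theorem exists_involution (h2 : IsPGroup 2 G) {M : M4} (hM : Fpf M) (h : F.Norm M) :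
    ∃ x, F.Mu x M ∧ x ^ 2 = 1 := by
  obtain ⟨w, hw, hw4⟩ := h
  have hwA : w ^ 2 ∈ omA hA := ⟨hA.mem_of_four h2 (F.sq_mem_centralizer hw)
    (by rw [show (4 : ℕ) = 2 * 2 from rfl, pow_mul, hw4, one_pow]), hw4⟩
  obtain ⟨e, he⟩ := F.iota_surj hwA
  obtain ⟨v, hv⟩ := surj_of_fpf M hM e
  obtain ⟨a, ha, hav⟩ := F.exists_root v
  refine ⟨w * a, by simpa using F.mu_mul hw (F.mu_of_centralizer fun b hb => hA.comm b hb a ha), ?_⟩
  rw [pow_two, show w * a * (w * a) = (w * a * w⁻¹) * (w ^ 2) * a by rw [pow_two]; group, hw.2 a ha v hav, ← he,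
    mul_assoc, mul_assoc, ← mul_assoc a, hA.comm a ha _ (F.iota_mem e).1, mul_assoc, ← pow_two, hav,
    ← iota_add, ← iota_add, show app M v + (e + v) = (v + app M v) + e by abel, hv, v2_self_add, iota_zero]

theorem involution_unique (h2 : IsPGroup 2 G) {M : M4} (hM : Fpf M) {x x' : G} (hx : F.Mu x M)
    (hx' : F.Mu x' M) (h1 : x ^ 2 = 1) (h1' : x' ^ 2 = 1) : x⁻¹ * x' ∈ omA hA := by
  have hc : x⁻¹ * x' ∈ centralizer (A : Set G) :=
    F.mem_centralizer_of_mu (by simpa [m4_self_add] using F.mu_mul (F.mu_inv hx) hx')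
  set c := x⁻¹ * x' with hcdef
  have hxx : x * x = 1 := by rw [← pow_two, h1]
  have hxi : x⁻¹ = x := inv_eq_of_mul_eq_one_right hxx
  have hxi' : x'⁻¹ = x' := inv_eq_of_mul_eq_one_right (by rw [← pow_two, h1'])
  have hinv : x * c * x⁻¹ = c⁻¹ := by
    rw [hcdef, _root_.mul_inv_rev, inv_inv, hxi', hxi, ← mul_assoc x x, hxx, one_mul]
  have hc2 : c ^ 2 = 1 := by_contra fun hne => by
    obtain ⟨n, hn, hn2⟩ := exists_power h2 hA hc hne
    obtain ⟨v, hv⟩ := F.iota_surj (sq_mem_omA hA hn)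
    have e := hx.2 _ hn v hv.symm
    rw [← conj_pow, hinv, inv_pow] at e
    have e2 : F.iota (app M v) = F.iota v := by
      rw [eq_mul_inv_of_mul_eq e.symm, ← _root_.mul_inv_rev, ← pow_two, ← hv]
      exact inv_eq_of_mul_eq_one_right (by rw [← pow_two]; exact (F.iota_mem v).2)
    exact hn2 (F.eq_zero_of_sq hv.symm (hM v (F.iota_inj e2)))
  exact ⟨hA.mem_of_four h2 hc (by rw [show (4 : ℕ) = 2 * 2 from rfl, pow_mul, hc2, one_pow]), hc2⟩

/-- An involution lift invariant under conjugation gives a normal elementary abelian group of order eight. -/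
theorem no_fixed (h2 : IsPGroup 2 G) (hG : NoEight G) {M : M4} (hM : Fpf M) (hM0 : M ≠ 0) (hN : F.Norm M)
    (hfix : ∀ g x : G, F.Mu x M → F.Mu (g * x * g⁻¹) M) : False := by
  obtain ⟨x, hx, hx2⟩ := F.exists_involution h2 hM hN
  have hxx : x * x = 1 := by rw [← pow_two, hx2]
  have hxi : x⁻¹ = x := inv_eq_of_mul_eq_one_right hxx
  have hxE : ∀ e ∈ omA hA, e * x = x * e := fun e he => hx.1 e he
  have hEE : ∀ e ∈ omA hA, ∀ f ∈ omA hA, e * f = f * e := fun e he f hf => hA.comm e he.1 f hf.1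
  let B : Subgroup G :=
    { carrier := {g | g ∈ omA hA ∨ x * g ∈ omA hA}
      one_mem' := Or.inl (one_mem _)
      mul_mem' := fun {a b} ha hb => by
        rcases ha with ha | ha <;> rcases hb with hb | hb
        · exact Or.inl (mul_mem ha hb)
        · refine Or.inr ?_
          rw [← mul_assoc, ← hxE a ha, mul_assoc]; exact mul_mem ha hb
        · exact Or.inr (by rw [← mul_assoc]; exact mul_mem ha hb)
        · refine Or.inl ?_
          rw [show a * b = x⁻¹ * (x * a) * x⁻¹ * (x * b) by group, hxi, ← hxE _ ha, mul_assoc _ x x, hxx, mul_one]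
          exact mul_mem ha hb
      inv_mem' := fun {a} ha => by
        rcases ha with ha | ha
        · exact Or.inl (inv_mem ha)
        · refine Or.inr ?_
          rw [show x * a⁻¹ = x * ((x * a)⁻¹ * x) by group, ← mul_assoc, ← hxE _ (inv_mem ha), mul_assoc, hxx, mul_one]
          exact inv_mem ha }
  have hform : ∀ g ∈ B, ∃ e ∈ omA hA, g = e ∨ g = x * e := by
    intro g hg
    rcases hg with hg | hg
    · exact ⟨g, hg, Or.inl rfl⟩
    · exact ⟨x * g, hg, Or.inr (by rw [← mul_assoc, hxx, one_mul])⟩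
  have hn : B.Normal := ⟨fun b hb g => by
    obtain ⟨e, he, rfl | rfl⟩ := hform b hb
    · exact Or.inl ((omA_normal hA).conj_mem _ he g)
    · refine Or.inr ?_
      have h' : x⁻¹ * (g * x * g⁻¹) ∈ omA hA :=
        F.involution_unique h2 hM hx (hfix g x hx) hx2 (by rw [conj_pow, hx2]; simp)
      rw [show x * (g * (x * e) * g⁻¹) = x * (g * x * g⁻¹) * (g * e * g⁻¹) by group]
      nth_rewrite 1 [← hxi]
      exact mul_mem h' ((omA_normal hA).conj_mem _ he g)⟩
  have hc : IsMulCommutative B := ⟨⟨fun a b => Subtype.ext (by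
    obtain ⟨e, he, ha | ha⟩ := hform a.1 a.2 <;> obtain ⟨f, hf, hb | hb⟩ := hform b.1 b.2 <;>
      simp only [Subgroup.coe_mul, ha, hb]
    · exact hEE e he f hf
    · rw [← mul_assoc, hxE e he, mul_assoc, hEE e he f hf, ← mul_assoc]
    · rw [mul_assoc, hEE e he f hf, ← mul_assoc, ← hxE f hf, mul_assoc]
    · calc x * e * (x * f) = x * x * (e * f) := by rw [mul_assoc, ← mul_assoc e, hxE e he, mul_assoc, ← mul_assoc]
        _ = x * x * (f * e) := by rw [hEE e he f hf]
        _ = x * f * (x * e) := by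
          rw [mul_assoc x f, ← mul_assoc f, hxE f hf, mul_assoc x f e, ← mul_assoc x x])⟩⟩
  have hexp : ∀ b ∈ B, b ^ 2 = 1 := by
    intro b hb
    obtain ⟨e, he, rfl | rfl⟩ := hform b hb
    · exact he.2
    · rw [(show Commute x e from (hxE e he).symm).mul_pow, hx2, he.2, one_mul]
  have hcard := hG B hn hc hexp
  have hxnot : x ∉ omA hA := fun h => hM0 (F.mu_unique hx (F.mu_of_centralizer fun b hb => hA.comm b hb x h.1))
  let φ : V2 × Bool → B := fun p =>
    ⟨(bif p.2 then x else 1) * F.iota p.1, by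
      rcases p with ⟨v, b⟩
      cases b
      · exact Or.inl (by simpa using F.iota_mem v)
      · exact Or.inr (by simpa [← mul_assoc, hxx] using F.iota_mem v)⟩
  have hφ : Function.Injective φ := by
    rintro ⟨v, b⟩ ⟨w, c⟩ h
    have h' := congrArg Subtype.val h
    cases b <;> cases c <;> simp only [φ, cond_true, cond_false, one_mul] at h'
    · rw [F.iota_inj h']
    · exact absurd (eq_mul_inv_of_mul_eq h'.symm ▸ mul_mem (F.iota_mem v) (inv_mem (F.iota_mem w))) hxnot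
    · exact absurd (eq_mul_inv_of_mul_eq h' ▸ mul_mem (F.iota_mem w) (inv_mem (F.iota_mem v))) hxnot
    · rw [F.iota_inj (mul_left_cancel h')]
  have := Nat.card_le_card_of_injective φ hφ
  simp at this
  omega

/-- With an invertible fixed-point-free endomorphism, every endomorphism is normalised. -/
theorem norm_all (h2 : IsPGroup 2 G) {M N : M4} (hM : Inv M) (hM' : Fpf M) {x u : G} (hx : F.Mu x M)
    (hu : F.Mu u N) : F.Norm N := by
  obtain ⟨x, hx, hx2⟩ := F.exists_involution h2 hM' (F.norm_of_inv h2 hM hx)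
  have hxi : x⁻¹ = x := inv_eq_of_mul_eq_one_right (by rw [← pow_two, hx2])
  have hE : x⁻¹ * (u * x * u⁻¹) ∈ omA hA :=
    F.involution_unique h2 hM' hx (F.mu_conj hx hu.1) hx2 (by rw [conj_pow, hx2]; simp)
  obtain ⟨e, he⟩ := F.iota_surj hE
  obtain ⟨v, hv⟩ := surj_of_inv M hM e
  obtain ⟨a, ha, hav⟩ := F.exists_root v
  have hux : u * x * u⁻¹ = x * F.iota e := by rw [he, mul_inv_cancel_left]
  have hax : a * x * a⁻¹ = x * F.iota e := by
    have h' := hx.2 a⁻¹ (inv_mem ha) v (by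
      rw [inv_pow, hav]; exact inv_eq_of_mul_eq_one_right (by rw [← pow_two]; exact (F.iota_mem v).2))
    rw [hv] at h'
    calc a * x * a⁻¹ = a * (x * a⁻¹ * x⁻¹) * x := by group
      _ = a * (F.iota e * a⁻¹) * x := by rw [h']
      _ = x * F.iota e := by
        rw [← mul_assoc a, hA.comm a ha _ (F.iota_mem e).1, mul_inv_cancel_right]
        exact hx.1 _ (F.iota_mem e)
  have hu' : F.Mu (u * a) N := by simpa using F.mu_mul hu (F.mu_of_centralizer fun b hb => hA.comm b hb a ha)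
  refine ⟨u * a, hu', by_contra fun hne => ?_⟩
  have hcomm : Commute (u * a) x := by
    have : u * a * x * (u * a)⁻¹ = x := by
      rw [show u * a * x * (u * a)⁻¹ = u * (a * x * a⁻¹) * u⁻¹ by group, hax,
        show u * (x * F.iota e) * u⁻¹ = (u * x * u⁻¹) * (u * F.iota e * u⁻¹) by group, hux, F.iota_fix hu.1,
        mul_assoc, ← iota_add, v2_self_add, iota_zero, mul_one]
    rw [mul_inv_eq_iff_eq_mul] at this
    exact this
  obtain ⟨n, hn, hn2⟩ := exists_power h2 hA (F.sq_mem_centralizer hu') hne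
  obtain ⟨v', hv'⟩ := F.iota_surj (sq_mem_omA hA hn)
  have e' := hx.2 _ hn v' hv'.symm
  rw [((hcomm.pow_left 2).pow_left n).symm.eq, mul_inv_cancel_right] at e'
  exact hn2 (F.eq_zero_of_sq hv'.symm (hM v' (F.iota_eq_one (mul_eq_right.1 e'.symm))))

/-- The endomorphisms induced by a subgroup. -/
def image (K : Subgroup G) : AddSubgroup M4 where
  carrier := {M | ∃ w ∈ K, F.Mu w M}
  zero_mem' := ⟨1, one_mem _, F.mu_of_centralizer (one_mem _)⟩
  add_mem' := fun ⟨u, hu, hu'⟩ ⟨w, hw, hw'⟩ => ⟨u * w, mul_mem hu hw, F.mu_mul hu' hw'⟩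
  neg_mem' := fun {M} ⟨w, hw, hw'⟩ => ⟨w, hw, by
    rwa [show -M = M from neg_eq_of_add_eq_zero_left (m4_self_add M)]⟩

theorem mem_image {K : Subgroup G} {M : M4} : M ∈ F.image K ↔ ∃ w ∈ K, F.Mu w M := Iff.rfl

end Frame

end CfsgLib.MacWilliams
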