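/-
The case in which the squares of `A` lie in a subgroup of order two.
-/
import Cfsg.Agent.Lib.MacWilliams.Setup

set_option autoImplicit false

namespace CfsgLib.MacWilliams

open Subgroup

universe u

theorem relIndex_ge_two {K : Type*} [Group K] [Finite K] {X Y : Subgroup K} (h : ¬ Y ≤ X) :
    2 ≤ X.relIndex Y := by
  by_contra hc
  rcases Nat.lt_or_ge (X.relIndex Y) 1 with h0 | h0
  · exact Subgroup.index_ne_zero_of_finite (H := X.subgroupOf Y) (by rw [Subgroup.relIndex] at h0; omega)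
  · exact h (Subgroup.relIndex_eq_one.1 (by omega))

/-- The image of a group, against that of a subgroup. -/
theorem card_range_mul {K V : Type*} [Group K] [Finite K] [Group V] (f : K →* V) (X : Subgroup K) :
    Nat.card f.range * X.relIndex f.ker = Nat.card (X.map f) * X.index := by
  have h1 := Subgroup.relIndex_mul_index (inf_le_left : f.ker ⊓ X ≤ f.ker)
  have h2 := Subgroup.relIndex_mul_index (inf_le_right : f.ker ⊓ X ≤ X)
  rw [Subgroup.inf_relIndex_left, Subgroup.index_ker] at h1
  rw [Subgroup.inf_relIndex_right, Subgroup.relIndex_ker] at h2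
  rw [mul_comm, h1, ← h2]

variable {G : Type u} [Group G] [Finite G] {A : Subgroup G} {V : Type u} [Group V] [Finite V]

/-- At most twice the image of the centraliser of the involutions. -/
theorem card_le_two_mul (h2 : IsPGroup 2 G) (hA : MaxFour A) (hG : NoEight G) {H : Subgroup G} (f : H →* V)
    (hf : Function.Surjective f) :
    Nat.card V ≤ 2 * Nat.card (((centralizer (omA hA : Set G)).subgroupOf H).map f) ∧
      (H ≤ centralizer (omA hA : Set G) →
        Nat.card V = Nat.card (((centralizer (omA hA : Set G)).subgroupOf H).map f)) := by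
  classical
  set W := ((centralizer (omA hA : Set G)).subgroupOf H).map f with hW
  constructor
  · have h1 := W.card_eq_card_quotient_mul_card_subgroup
    rw [h1]
    refine Nat.mul_le_mul_right _ ?_
    have : Function.Injective fun q : V ⧸ W => decide (q = ((1 : V) : V ⧸ W)) := by
      intro q r e
      induction q using QuotientGroup.induction_on with | _ v => ?_
      induction r using QuotientGroup.induction_on with | _ w => ?_
      simp only [decide_eq_decide] at e
      by_cases hv : (v : V ⧸ W) = ((1 : V) : V ⧸ W)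
      · rw [hv, e.1 hv]
      · obtain ⟨s, rfl⟩ := hf v
        obtain ⟨t, rfl⟩ := hf w
        have hw := fun hw' => hv (e.2 hw')
        rw [QuotientGroup.eq] at hv hw ⊢
        have hs : (s : G) ∉ centralizer (omA hA : Set G) := fun hc => hv (by
          rw [mul_one]; exact inv_mem ⟨s, hc, rfl⟩)
        have ht : (t : G) ∉ centralizer (omA hA : Set G) := fun hc => hw (by
          rw [mul_one]; exact inv_mem ⟨t, hc, rfl⟩)
        exact ⟨s⁻¹ * t, inv_mul_mem_centralizer h2 hA hG hs ht, by simp⟩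
    simpa using Nat.card_le_card_of_injective _ this
  · intro hle
    have : W = ⊤ := by
      rw [hW, Subgroup.subgroupOf_eq_top.2 hle, ← MonoidHom.range_eq_map, MonoidHom.range_eq_top.2 hf]
    rw [this, Subgroup.card_top]

/-- The bound, if all squares of `A` are `1` or the square of one element. -/
theorem card_le_small (h2 : IsPGroup 2 G) (hA : MaxFour A) (hG : NoEight G) {a : G} (ha : a ∈ A)
    (hs : ∀ b ∈ A, b ^ 2 = 1 ∨ b ^ 2 = a ^ 2) (H : Subgroup G) (f : H →* V) (hf : Function.Surjective f)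
    (hV : ∀ v : V, v ^ 2 = 1) : Nat.card V ≤ 16 := by
  classical
  haveI := hA.normal
  set CE := centralizer (omA hA : Set G) with hCE
  set K := CE.subgroupOf H with hK
  set g : K →* V := f.comp K.subtype with hg
  set X : Subgroup K := (centralizer (A : Set G)).comap (H.subtype.comp K.subtype) with hX
  have hrange : Nat.card (K.map f) = Nat.card g.range := by
    rw [hg, MonoidHom.range_comp, Subgroup.range_subtype]
  have hXV : Nat.card (X.map g) ≤ 4 := by
    have hle : X.map (H.subtype.comp K.subtype) ≤ centralizer (A : Set G) := map_comap_le _ _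
    let e := X.equivMapOfInjective (H.subtype.comp K.subtype) (H.subtype_injective.comp K.subtype_injective)
    have := card_range_le h2 hA hle (((g.comp X.subtype).comp e.symm.toMonoidHom)) hV
    rw [MonoidHom.range_comp, MonoidHom.range_eq_top.2 e.symm.surjective, ← MonoidHom.range_eq_map,
      MonoidHom.range_comp, Subgroup.range_subtype] at this
    exact this.trans (card_omA hA hG)
  -- the shift of `a`
  have hfix : ∀ k ∈ CE, ∀ e ∈ omA hA, k * e * k⁻¹ = e := fun k hk e he => by
    rw [← hk e he, mul_inv_cancel_right]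
  let δ : K → omA hA := fun k => ⟨(k.1.1) * a * (k.1.1)⁻¹ * a⁻¹,
    mul_mem (hA.normal.conj_mem _ ha _) (inv_mem ha), by
      rw [(show Commute _ a⁻¹ from hA.comm _ (hA.normal.conj_mem _ ha _) _ (inv_mem ha)).mul_pow, conj_pow,
        hfix (k.1.1 : G) k.2 _ (sq_mem_omA hA ha), inv_pow, mul_inv_cancel]⟩
  have hδ : ∀ k l : K, δ k = δ l → k⁻¹ * l ∈ X := by
    intro k l e
    have e1 : (k.1.1) * a * (k.1.1)⁻¹ = (l.1.1) * a * (l.1.1)⁻¹ :=
      mul_right_cancel (congrArg Subtype.val e)
    have ha' : ((k⁻¹ * l : K).1.1) * a * ((k⁻¹ * l : K).1.1)⁻¹ = a := by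
      show ((k.1.1)⁻¹ * l.1.1) * a * ((k.1.1)⁻¹ * l.1.1)⁻¹ = a
      rw [show ((k.1.1)⁻¹ * l.1.1) * a * ((k.1.1)⁻¹ * l.1.1)⁻¹ =
        (k.1.1)⁻¹ * ((l.1.1) * a * (l.1.1)⁻¹) * k.1.1 by group, ← e1]
      group
    show ((k⁻¹ * l : K).1.1) ∈ centralizer (A : Set G)
    intro b hb
    set w := ((k⁻¹ * l : K).1.1)
    have hw : w ∈ CE := (k⁻¹ * l : K).2
    suffices w * b * w⁻¹ = b by rw [mul_inv_eq_iff_eq_mul] at this; exact this.symm
    rcases hs b hb with hb2 | hb2
    · exact hfix w hw b ⟨hb, hb2⟩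
    · have hu : a⁻¹ * b ∈ omA hA := ⟨mul_mem (inv_mem ha) hb, by
        rw [(show Commute a⁻¹ b from hA.comm _ (inv_mem ha) _ hb).mul_pow, inv_pow, hb2, inv_mul_cancel]⟩
      rw [show w * b * w⁻¹ = (w * a * w⁻¹) * (w * (a⁻¹ * b) * w⁻¹) by group, ha', hfix w hw _ hu,
        mul_inv_cancel_left]
  have hidx : X.index ≤ Nat.card (omA hA) := by
    rw [Subgroup.index_eq_card]
    refine Nat.card_le_card_of_injective (fun q => δ q.out) fun p q e => ?_
    rw [← p.out_eq', ← q.out_eq', QuotientGroup.eq]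
    exact hδ _ _ e
  have h4 := hidx.trans (card_omA hA hG)
  have hmul := card_range_mul g X
  have hker : 1 ≤ X.relIndex g.ker := Nat.one_le_iff_ne_zero.2 (Subgroup.index_ne_zero_of_finite (H := X.subgroupOf g.ker))
  obtain ⟨htwo, heq⟩ := card_le_two_mul h2 hA hG f hf
  have hr : Nat.card g.range ≤ 16 :=
    ((Nat.le_mul_of_pos_right _ hker).trans hmul.le).trans (Nat.mul_le_mul hXV h4)
  by_cases hH : H ≤ CE
  · rw [heq hH, ← hK, hrange]; exact hr
  obtain ⟨t, htH, htC⟩ := SetLike.not_le_iff_exists.1 hH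
  rcases omA_cases h2 hA hG with h | ⟨e₀, z, he₀, hz, he1, hz1, hez, hzc, hall, hor⟩
  · exact absurd (fun e he => by
      have := h t e he
      rw [mul_inv_eq_iff_eq_mul] at this
      exact this.symm) htC
  have ht₀ : t * e₀ * t⁻¹ = e₀ * z := (hor t).resolve_left fun e => htC fun u hu => by
    have : t * u * t⁻¹ = u := by
      rcases hall u hu with rfl | rfl | rfl | rfl
      · simp
      · exact hzc t
      · exact e
      · rw [show t * (e₀ * z) * t⁻¹ = (t * e₀ * t⁻¹) * (t * z * t⁻¹) by group, e, hzc t]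
    rw [mul_inv_eq_iff_eq_mul] at this
    exact this.symm
  -- the square of `a` is fixed
  have ha2 : t⁻¹ * a ^ 2 * t = a ^ 2 := by
    have e : (t⁻¹ * a * t) ^ 2 = t⁻¹ * a ^ 2 * t := by
      have := conj_pow (i := 2) (a := t⁻¹) (b := a); rwa [inv_inv] at this
    rcases hs (t⁻¹ * a * t) (hA.normal.conj_mem' _ ha t) with h | h
    · rw [e] at h
      have : a ^ 2 = 1 := by
        have h' := congrArg (fun x => t * x * t⁻¹) h
        simpa [mul_assoc] using h'
      simp [this]
    · rwa [e] at h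
  by_cases hsurj : ∃ k : K, δ k = ⟨e₀, he₀⟩
  · obtain ⟨k, hk⟩ := hsurj
    have hkG : (k.1.1) * a * (k.1.1)⁻¹ = e₀ * a := by
      have := congrArg Subtype.val hk
      simpa [δ, mul_inv_eq_iff_eq_mul] using this
    let tH : H := ⟨t, htH⟩
    haveI : CE.Normal := by rw [hCE]; haveI := omA_normal hA; infer_instance
    have hkK : tH * k.1 * tH⁻¹ * k.1⁻¹ ∈ K :=
      mul_mem (Subgroup.Normal.conj_mem (inferInstance : CE.Normal) _ k.2 t) (inv_mem k.2)
    set c : K := ⟨_, hkK⟩ with hc
    have hcker : c ∈ g.ker := by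
      show f (tH * k.1 * tH⁻¹ * k.1⁻¹) = 1
      rw [map_mul, map_mul, map_mul, exp_two_comm hV (f tH) (f k.1), map_inv, map_inv, mul_inv_cancel_right,
        mul_inv_cancel]
    have hε : t⁻¹ * a * t * a⁻¹ ∈ omA hA := ⟨mul_mem (hA.normal.conj_mem' _ ha t) (inv_mem ha), by
      have e : (t⁻¹ * a * t) ^ 2 = t⁻¹ * a ^ 2 * t := by
        have := conj_pow (i := 2) (a := t⁻¹) (b := a); rwa [inv_inv] at this
      rw [(show Commute (t⁻¹ * a * t) a⁻¹ from hA.comm _ (hA.normal.conj_mem' _ ha t) _ (inv_mem ha)).mul_pow,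
        e, ha2, inv_pow, mul_inv_cancel]⟩
    have hcX : c ∉ X := by
      intro hcX
      have h1 : t * (k.1.1) * t⁻¹ * (k.1.1)⁻¹ * a * (t * (k.1.1) * t⁻¹ * (k.1.1)⁻¹)⁻¹ = a := by
        have hh : a * (t * (k.1.1) * t⁻¹ * (k.1.1)⁻¹) = (t * (k.1.1) * t⁻¹ * (k.1.1)⁻¹) * a := hcX a ha
        rw [← hh, mul_inv_cancel_right]
      have h2' := hfix (k.1.1 : G) k.2 _ hε
      -- both conjugates move `a` by the same element
      have h3 : (t * k.1.1 * t⁻¹) * a * (t * k.1.1 * t⁻¹)⁻¹ = (e₀ * z) * a := by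
        rw [show (t * k.1.1 * t⁻¹) * a * (t * k.1.1 * t⁻¹)⁻¹ =
          t * ((k.1.1 * (t⁻¹ * a * t * a⁻¹) * (k.1.1)⁻¹) * (k.1.1 * a * (k.1.1)⁻¹)) * t⁻¹ by group, h2', hkG,
          show t * (t⁻¹ * a * t * a⁻¹ * (e₀ * a)) * t⁻¹ = a * (t * (a⁻¹ * e₀ * a) * t⁻¹) by group,
          mul_assoc a⁻¹, ← hA.comm a ha e₀ he₀.1, inv_mul_cancel_left, ht₀]
        exact hA.comm a ha _ (mul_mem he₀.1 hz.1)
      have h5 : (t * k.1.1 * t⁻¹) * a * (t * k.1.1 * t⁻¹)⁻¹ = e₀ * a := by
        conv_lhs => rw [show t * k.1.1 * t⁻¹ = (t * k.1.1 * t⁻¹ * (k.1.1)⁻¹) * k.1.1 by group]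
        rw [show ∀ c d : G, c * d * a * (c * d)⁻¹ = c * (d * a * d⁻¹) * c⁻¹ from fun c d => by group, hkG]
        have he : (t * (k.1.1) * t⁻¹ * (k.1.1)⁻¹) ∈ CE := hkK
        rw [show ∀ c : G, c * (e₀ * a) * c⁻¹ = (c * e₀ * c⁻¹) * (c * a * c⁻¹) from fun c => by group,
          hfix _ he e₀ he₀, h1]
      exact hz1 (by
        have := mul_right_cancel (h3.symm.trans h5)
        exact mul_left_cancel (this.trans (mul_one e₀).symm))
    have h2k : 2 ≤ X.relIndex g.ker := relIndex_ge_two fun h => hcX (h hcker)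
    have : Nat.card g.range * 2 ≤ 16 :=
      ((Nat.mul_le_mul_left _ h2k).trans hmul.le).trans (Nat.mul_le_mul hXV h4)
    rw [← hK, hrange] at htwo
    omega
  · -- the shift is not surjective
    have h3 : X.index ≤ 3 := by
      rw [Subgroup.index_eq_card]
      haveI : Fintype (omA hA) := Fintype.ofFinite _
      have hinj : Function.Injective (fun q : K ⧸ X => (⟨δ q.out, fun e => hsurj ⟨_, e⟩⟩ : {x : omA hA // x ≠ ⟨e₀, he₀⟩})) :=
        fun p q e => by
          rw [← p.out_eq', ← q.out_eq', QuotientGroup.eq]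
          exact hδ _ _ (congrArg Subtype.val e)
      refine (Nat.card_le_card_of_injective _ hinj).trans ?_
      rw [Nat.card_eq_fintype_card, Fintype.card_subtype_compl, Fintype.card_subtype_eq, ← Nat.card_eq_fintype_card]
      have := card_omA hA hG
      omega
    obtain ⟨m, hm⟩ := card_two_group_dvd (((h2.to_subgroup H).to_subgroup K))
    have hdvd : X.index ∣ 2 ^ m := hm ▸ X.index_dvd_card
    obtain ⟨j, -, hj⟩ := (Nat.dvd_prime_pow Nat.prime_two).1 hdvd
    have h2' : X.index ≤ 2 := by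
      rcases j with _ | _ | j
      · simp [hj]
      · simp [hj]
      · have : 4 ≤ 2 ^ (j + 1 + 1) := by
          rw [show j + 1 + 1 = j + 2 from rfl, pow_add]; norm_num; exact Nat.one_le_two_pow
        omega
    have : Nat.card g.range ≤ 8 :=
      ((Nat.le_mul_of_pos_right _ hker).trans hmul.le).trans ((Nat.mul_le_mul hXV h2').trans (by norm_num))
    rw [← hK, hrange] at htwo
    omega

end CfsgLib.MacWilliams
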