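/-
Two-groups without normal elementary abelian subgroups of order eight have sectional rank at most four.
-/
import Cfsg.Agent.Lib.MacWilliams.Small
import Cfsg.Agent.Lib.MacWilliams.Full
import Cfsg.Prelude.Def_CaseTheorems

set_option autoImplicit false

namespace CfsgLib.MacWilliams

open Subgroup

universe u

variable {G : Type u} [Group G] [Finite G] {A : Subgroup G} {V : Type u} [Group V] [Finite V]

theorem pow_four_arith {n : ℕ} (k : ℕ) (hk : n = 2 ^ k) (h : 16 < n) : 32 ≤ n := by
  subst hk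
  have : 5 ≤ k := by
    by_contra hc
    have := Nat.pow_le_pow_right (show 0 < 2 by norm_num) (show k ≤ 4 by omega)
    omega
  exact le_trans (by norm_num) (Nat.pow_le_pow_right (by norm_num) this)

theorem two_four_arith {a b : ℕ} (ha : a ≤ 4) (hb : b ≤ 4) (h : 16 ≤ a * b) : a = 4 ∧ b = 4 := by
  constructor <;> nlinarith

/-- The bound, if every involution of `A` is a square. -/
theorem card_le_full (h2 : IsPGroup 2 G) (hA : MaxFour A) (hG : NoEight G) (F : Frame hA) (H : Subgroup G)
    (f : H →* V) (hf : Function.Surjective f) (hV : ∀ v : V, v ^ 2 = 1) : Nat.card V ≤ 16 := by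
  classical
  by_contra hbig
  push Not at hbig
  haveI := hA.normal
  haveI : Fact (Nat.Prime 2) := ⟨Nat.prime_two⟩
  set CE := centralizer (omA hA : Set G) with hCE
  set K := CE.subgroupOf H with hK
  set g : K →* V := f.comp K.subtype with hg
  set X : Subgroup K := (centralizer (A : Set G)).comap (H.subtype.comp K.subtype) with hX
  have hrange : Nat.card (K.map f) = Nat.card g.range := by
    rw [hg, MonoidHom.range_comp, Subgroup.range_subtype]
  have hle : X.map (H.subtype.comp K.subtype) ≤ centralizer (A : Set G) := map_comap_le _ _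
  let e := X.equivMapOfInjective (H.subtype.comp K.subtype) (H.subtype_injective.comp K.subtype_injective)
  let gX := (g.comp X.subtype).comp e.symm.toMonoidHom
  have hgX : Nat.card gX.range = Nat.card (X.map g) := by
    rw [MonoidHom.range_comp, MonoidHom.range_eq_top.2 e.symm.surjective, ← MonoidHom.range_eq_map,
      MonoidHom.range_comp, Subgroup.range_subtype]
  have hXV : Nat.card (X.map g) ≤ 4 := hgX ▸ (card_range_le h2 hA hle gX hV).trans (card_omA hA hG)
  -- lifts normalised by the squares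
  have hnorm : Nat.card (X.map g) = 4 → ∀ M ∈ F.image (H ⊓ CE), F.Norm M := by
    rintro h4 M ⟨w, ⟨hwH, hwC⟩, hw⟩
    let k : K := ⟨⟨w, hwH⟩, hwC⟩
    have hkX : k ^ 2 ∈ X := by
      show ((k ^ 2 : K).1.1 : G) ∈ centralizer (A : Set G)
      simpa [k] using F.sq_mem_centralizer hw
    obtain ⟨d, hd⟩ := exists_sq h2 hA hG hle gX hV (hgX.trans h4) (x := e ⟨k ^ 2, hkX⟩) (by
      simp [gX, hg, map_pow, hV])
    refine F.norm_of_square h2 hw (hle d.2) ?_
    have := congrArg Subtype.val hd
    simpa [e, k] using this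
  -- the endomorphisms
  choose μ hμ using fun k : K => F.exists_mu (w := k.1.1) k.2
  let ψ : K →* Multiplicative M4 := MonoidHom.mk' (fun k => Multiplicative.ofAdd (μ k)) fun k l => by
    rw [← ofAdd_add]
    exact congrArg _ (F.mu_unique (hμ (k * l)) (F.mu_mul (hμ k) (hμ l)))
  have hψker : ψ.ker = X := by
    ext k
    constructor
    · intro hk
      have : μ k = 0 := by simpa [ψ] using hk
      exact F.mem_centralizer_of_mu (this ▸ hμ k)
    · intro hk
      have : μ k = 0 := F.mu_unique (hμ k) (F.mu_of_centralizer hk)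
      simp [ψ, this]
  set S := F.image (H ⊓ CE) with hS
  have hS' : Nat.card S = X.index := by
    rw [← hψker, Subgroup.index_ker]
    refine Nat.card_congr
      { toFun := fun M => ⟨Multiplicative.ofAdd M.1, ?_⟩
        invFun := fun M => ⟨Multiplicative.toAdd M.1, ?_⟩
        left_inv := fun M => rfl
        right_inv := fun M => rfl }
    · obtain ⟨w, ⟨hwH, hwC⟩, hw⟩ := M.2
      exact ⟨⟨⟨w, hwH⟩, hwC⟩, congrArg Multiplicative.ofAdd (F.mu_unique (hμ _) hw)⟩
    · obtain ⟨k, hk⟩ := M.2
      exact ⟨k.1.1, ⟨k.1.2, k.2⟩, by rw [← hk]; exact hμ k⟩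
  have hmul := card_range_mul g X
  rw [← hS'] at hmul
  obtain ⟨htwo, heq⟩ := card_le_two_mul h2 hA hG f hf
  rw [← hK, hrange] at htwo heq
  have hrel : 1 ≤ X.relIndex g.ker :=
    Nat.one_le_iff_ne_zero.2 (Subgroup.index_ne_zero_of_finite (H := X.subgroupOf g.ker))
  obtain ⟨kV, hkV⟩ := card_two_group_dvd (V := V) fun v => ⟨1, by simpa using hV v⟩
  have h32 := pow_four_arith kV hkV hbig
  obtain ⟨hjFpf, hj0, hjtc⟩ := jj_props
  obtain ⟨homI, homF, hom0, hom2I, hom2F, hom20⟩ := om_props
  have hfix : ∀ M : M4, (∀ t : G, t ∉ CE → tc M = M) → ∀ g x : G, F.Mu x M → F.Mu (g * x * g⁻¹) M := by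
    intro M hM g x hx
    by_cases hgc : g ∈ CE
    · exact F.mu_conj hx hgc
    · have := F.mu_conj_swap hx hgc
      rwa [hM g hgc] at this
  have hjj : F.Norm jj → False := fun hn => F.no_fixed h2 hG hjFpf hj0 hn (hfix jj fun _ _ => hjtc)
  by_cases hH : H ≤ CE
  · -- the group fixes the involutions
    rw [heq hH] at h32
    have hbd : 32 ≤ Nat.card (X.map g) * Nat.card S :=
      le_trans h32 (le_trans (Nat.le_mul_of_pos_right _ hrel) hmul.le)
    set S₀ := F.image CE with hS₀
    have hSS₀ : S ≤ S₀ := fun M ⟨w, hw, hw'⟩ => ⟨w, hw.2, hw'⟩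
    have hS8 : 8 ≤ Nat.card S := by nlinarith
    have hS₀8 : 8 ≤ Nat.card S₀ := le_trans hS8 (Nat.card_le_card_of_injective _ (Set.inclusion_injective hSS₀))
    have hall : (om ∈ S₀ ∨ om2 ∈ S₀) → ∀ M ∈ S₀, F.Norm M := by
      rintro (⟨x, -, hx⟩ | ⟨x, -, hx⟩) M ⟨u, -, hu⟩
      exacts [F.norm_all h2 homI homF hx hu, F.norm_all h2 hom2I hom2F hx hu]
    by_cases hsw : ∃ t : G, t ∉ CE
    · obtain ⟨t, ht⟩ := hsw
      have hinv : ∀ M ∈ S₀, tc M ∈ S₀ := fun M ⟨w, hwC, hw⟩ => ⟨_, (F.mu_conj_swap hw ht).1, F.mu_conj_swap hw ht⟩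
      have hj₀ : jj ∈ S₀ := jj_mem_of_invariant hS₀8 hinv
      by_cases ho : om ∈ S₀ ∨ om2 ∈ S₀
      · exact hjj (hall ho jj hj₀)
      · push Not at ho
        have hS₀top : Nat.card S₀ ≤ 8 := (eq_top_or_card_le).resolve_left fun e => ho.1 (e ▸ AddSubgroup.mem_top _)
        have hSeq : S = S₀ := SetLike.coe_injective
          (Set.eq_of_subset_of_ncard_le hSS₀ (by
            rw [← Nat.card_coe_set_eq, ← Nat.card_coe_set_eq]; exact hS₀top.trans hS8) (Set.toFinite _))
        have hS8' : Nat.card S ≤ 8 := hSeq ▸ hS₀top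
        have h4 : Nat.card (X.map g) = 4 := by nlinarith
        exact hjj (hnorm h4 jj (show jj ∈ S by rw [hSeq]; exact hj₀))
    · push Not at hsw
      have hfix' : ∀ M : M4, ∀ g x : G, F.Mu x M → F.Mu (g * x * g⁻¹) M :=
        fun M => hfix M fun t ht => absurd (hsw t) ht
      by_cases ho : om ∈ S₀ ∨ om2 ∈ S₀
      · rcases ho with ho | ho
        · exact F.no_fixed h2 hG homF hom0 (hall (Or.inl ho) _ ho) (hfix' _)
        · exact F.no_fixed h2 hG hom2F hom20 (hall (Or.inr ho) _ ho) (hfix' _)
      · push Not at ho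
        have hS₀top : Nat.card S₀ ≤ 8 := (eq_top_or_card_le).resolve_left fun e => ho.1 (e ▸ AddSubgroup.mem_top _)
        have hS8' : Nat.card S ≤ 8 :=
          le_trans (Nat.card_le_card_of_injective _ (Set.inclusion_injective hSS₀)) hS₀top
        have h4 : Nat.card (X.map g) = 4 := by nlinarith
        obtain ⟨he12, he120⟩ := e12_props
        obtain ⟨he21, he210⟩ := e21_props
        rcases nilpotent_mem hS8 (fun h => ho.1 (hSS₀ h)) (fun h => ho.2 (hSS₀ h)) with h | h | h
        · exact F.no_fixed h2 hG he12 he120 (hnorm h4 _ h) (hfix' _)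
        · exact F.no_fixed h2 hG he21 he210 (hnorm h4 _ h) (hfix' _)
        · exact hjj (hnorm h4 _ h)
  · -- some element swaps the involutions
    obtain ⟨t, htH, htC⟩ := SetLike.not_le_iff_exists.1 hH
    haveI : CE.Normal := by rw [hCE]; haveI := omA_normal hA; infer_instance
    let δ : S →+ M4 := AddMonoidHom.mk' (fun M => tc M.1 + M.1) fun M N => by
      simp only [AddSubgroup.coe_add, tc_add]; abel
    have hker : Nat.card δ.ker ≤ 4 := by
      let l : List M4 := [0, ((1, 0), (0, 1)), jj, ((0, 1), (1, 0))]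
      have : ∀ M : δ.ker, M.1.1 ∈ l.toFinset := fun M => List.mem_toFinset.2 <| tc_fixed _ (by
        have h := M.2
        calc tc M.1.1 = (tc M.1.1 + M.1.1) + M.1.1 := by rw [add_assoc, m4_self_add, add_zero]
          _ = M.1.1 := by rw [show tc M.1.1 + M.1.1 = 0 from h, zero_add])
      refine (Nat.card_le_card_of_injective (β := l.toFinset) (fun M => ⟨M.1.1, this M⟩)
        (fun a b h => Subtype.ext (Subtype.ext (Subtype.mk.inj h)))).trans ?_
      rw [Nat.card_eq_fintype_card, Fintype.card_coe]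
      exact (List.toFinset_card_le l).trans (by simp [l])
    have hδrel : Nat.card δ.range ≤ X.relIndex g.ker := by
      rw [← hψker, Subgroup.relIndex_ker]
      have : ∀ M : δ.range, Multiplicative.ofAdd M.1 ∈ ψ '' g.ker := by
        rintro ⟨_, ⟨M, w, ⟨hwH, hwC⟩, hw⟩, rfl⟩
        let tH : H := ⟨t, htH⟩
        let k : H := ⟨w, hwH⟩
        have hkK : tH * k * tH⁻¹ * k⁻¹ ∈ K :=
          mul_mem (Subgroup.Normal.conj_mem (inferInstance : CE.Normal) _ hwC t) (inv_mem hwC)
        refine ⟨⟨_, hkK⟩, ?_, congrArg Multiplicative.ofAdd (F.mu_unique (hμ _)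
          (F.mu_mul (F.mu_conj_swap hw htC) (F.mu_inv hw)))⟩
        show f (tH * k * tH⁻¹ * k⁻¹) = 1
        rw [map_mul, map_mul, map_mul, exp_two_comm hV (f tH) (f k), map_inv, map_inv, mul_inv_cancel_right,
          mul_inv_cancel]
      exact (Nat.card_le_card_of_injective (fun M => (⟨_, this M⟩ : (ψ '' g.ker : Set _)))
        (fun a b h => Subtype.ext (Multiplicative.ofAdd.injective (Subtype.mk.inj h)))).trans
        (Nat.card_le_card_of_injective (fun x => (⟨x.1, by
          obtain ⟨k, hk, e⟩ := x.2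
          exact ⟨k, hk, e⟩⟩ : g.ker.map ψ)) fun a b h => Subtype.ext (congrArg (Subtype.val : g.ker.map ψ → _) h))
    have hcard : Nat.card S = Nat.card δ.range * Nat.card δ.ker := by
      rw [δ.ker.card_eq_card_quotient_mul_card_addSubgroup,
        Nat.card_congr (QuotientAddGroup.quotientKerEquivRange δ).toEquiv]
    have hpos : 0 < Nat.card δ.range := Nat.card_pos
    have hprod : 16 ≤ Nat.card (X.map g) * Nat.card δ.ker := by
      have h16 : 16 ≤ Nat.card g.range := by omega
      refine Nat.le_of_mul_le_mul_right ?_ hpos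
      calc 16 * Nat.card δ.range ≤ Nat.card g.range * X.relIndex g.ker := Nat.mul_le_mul h16 hδrel
        _ = Nat.card (X.map g) * Nat.card S := hmul
        _ = Nat.card (X.map g) * Nat.card δ.ker * Nat.card δ.range := by rw [hcard]; ring
    obtain ⟨h4, hk4⟩ := two_four_arith hXV hker hprod
    -- the kernel of `δ` contains `jj`
    have hj : jj ∈ S := by
      by_contra hjS
      let l : List M4 := [0, ((1, 0), (0, 1)), ((0, 1), (1, 0))]
      have : ∀ M : δ.ker, M.1.1 ∈ l.toFinset := fun M => List.mem_toFinset.2 (by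
        have hm := tc_fixed M.1.1 (by
          have h := M.2
          calc tc M.1.1 = (tc M.1.1 + M.1.1) + M.1.1 := by rw [add_assoc, m4_self_add, add_zero]
            _ = M.1.1 := by rw [show tc M.1.1 + M.1.1 = 0 from h, zero_add])
        have hne : M.1.1 ≠ jj := fun e => hjS (e ▸ M.1.2)
        simpa [l, hne] using hm)
      have h3 := Nat.card_le_card_of_injective (β := l.toFinset) (fun M => ⟨M.1.1, this M⟩)
        (fun a b h => Subtype.ext (Subtype.ext (Subtype.mk.inj h)))
      rw [Nat.card_eq_fintype_card (α := l.toFinset), Fintype.card_coe] at h3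
      have := List.toFinset_card_le l
      have h3' : l.length = 3 := rfl
      omega
    exact hjj (hnorm h4 jj hj)

/-- MacWilliams's theorem. -/
theorem sectional_rank_le_four {P : Type u} [Group P] [Finite P] (h2 : IsPGroup 2 P) (hG : NoEight P) :
    Cfsg.SectionalPRankLE 2 4 P := by
  intro H N _ E hE hexp
  obtain ⟨A, hA⟩ := exists_maxFour (G := P)
  let π := QuotientGroup.mk' N
  let K : Subgroup P := (E.comap π).map H.subtype
  let e := (E.comap π).equivMapOfInjective H.subtype H.subtype_injective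
  let f : K →* E := (π.subgroupComap E).comp e.symm.toMonoidHom
  have hf : Function.Surjective f :=
    (MonoidHom.subgroupComap_surjective_of_surjective π E (QuotientGroup.mk'_surjective N)).comp e.symm.surjective
  have hV : ∀ v : E, v ^ 2 = 1 := fun v => Subtype.ext (by simpa using hexp v.1 v.2)
  show Nat.card E ≤ 16
  by_cases hs : ∃ a ∈ A, ∀ b ∈ A, b ^ 2 = 1 ∨ b ^ 2 = a ^ 2
  · obtain ⟨a, ha, hs⟩ := hs
    exact card_le_small h2 hA hG ha hs K f hf hV
  · obtain ⟨F⟩ := exists_frame h2 hA hG hs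
    exact card_le_full h2 hA hG F K f hf hV

end CfsgLib.MacWilliams
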